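import Cfsg.Agent.H214.XR.RankTwoU
import Cfsg.Agent.H567.KB.E7Row
import Cfsg.Agent.H778.ExcMain

/-!
# S4791 + S4927: the height theorem, data form, and `E₇(q)`, `ord_p(q) = 4` (helper214)

* `x0_eq_kJ_data` : untwisted groups, `q ^ 2 = s q + t` modulo `p`, certificates as in `H567.KB.Line`.
* `height_E7_4` : `E₇(q)`, `ord_p(q) = 4`, `p ≥ 11`.
-/

set_option autoImplicit false
set_option linter.unusedSectionVars false

namespace Cfsg.Agent.H214.XR

open CoxeterSystem Cfsg Cfsg.Lie Cfsg.Lie.ChevalleyDatum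
open Cfsg.Agent.H674.XZ Cfsg.Agent.H508.XR Cfsg.Agent.H603.AP
open Cfsg.Agent.ChevalleyStructure.CoxeterGeom Cfsg.Agent.ChevalleyStructure.CoxeterGeomTypes
open Cfsg.Agent.Tits.Roots Cfsg.Agent.Tits.Core Cfsg.Agent.Nodes Cfsg.Agent.Nodes.Reps Cfsg.Agent.Nodes.RGDChev
open Cfsg.Agent.H129.WData Cfsg.Agent.H210.EL Cfsg.Agent.H440.TD4 Cfsg.Agent.H129.TorusChar
open Cfsg.Agent.H567.KB

universe u

/-- **The height theorem, data form.** -/
theorem x0_eq_kJ_data {D : ChevalleyDatum} {l : ℕ} {M : CoxeterMatrix (Fin l)} {F : Type} [Field F] [Fintype F] {dg : List ℕ}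
    (hc : (D, dg) ∈ [(Cfsg.Lie.chevG2, [2, 6]), (Cfsg.Lie.chevB2, [2, 4]), (Cfsg.Lie.chevD4, [2, 4, 4, 6]),
      (Cfsg.Lie.chevF4, [2, 6, 8, 12]), (Cfsg.Lie.chevE6, [2, 5, 6, 8, 9, 12]), (Cfsg.Lie.chevE7, [2, 6, 8, 10, 12, 14, 18]),
      (Cfsg.Lie.chevE8, [2, 8, 12, 14, 18, 20, 24, 30])])
    (hp : IsType D l M) {p : ℕ} [hpp : Fact p.Prime] {I : Ideal AlgInt} (hM : IsPModular p I) (hpF : (p : F) ≠ 0)
    (hpW : ¬ p ∣ dg.prod) (hW : ¬ p ∣ Nat.card M.Group) {d : ℕ} {B : Fin l → Fin l → ℤ} (hB : InvC D l d B) (hd : d ≠ 0)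
    (hdp : d.Coprime p) {S : Type u} [Group S] [Finite S] (e : S ≃* ↥(D.group F))
    (hlen : (dg.filter (fun n => orderOf (Fintype.card F : ZMod p) ∣ n)).length = 2)
    {A : Mat l} {Cw : List (Fin l × Mat l)} {s t : ℤ} (hA : ∀ i j, A i j = cartanOf D l i j) (hw : ChainOK A Cw)
    (hq : ((Fintype.card F : ℕ) : ZMod p) ^ 2 = s * (Fintype.card F : ℕ) + t)
    {a b c : (Fin l → ℤ) × (Fin l → ℤ)} (ha : ActP (H129.WData.hd Cw) s t (0, 1) a) (hb : ActP (H129.WData.hd Cw) s t (0, 1) b)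
    (hcc : ActP (H129.WData.hd Cw) s t (0, 1) c) {N₀ : ℕ} (hN : ¬ p ∣ N₀)
    (hn : ∀ r ∈ Finset.range D.nroots, (dt c (vec D l r) = 0 ∧ dt a (vec D l r) = 0 ∧ dt b (vec D l r) = 0) ∨
      nrm s t (dt c (vec D l r)) ∣ N₀) (i j : Fin l)
    (hdet : vecq ((Fintype.card F : ℕ) : ZMod p) a i * vecq ((Fintype.card F : ℕ) : ZMod p) b j -
      vecq ((Fintype.card F : ℕ) : ZMod p) a j * vecq ((Fintype.card F : ℕ) : ZMod p) b i ≠ 0)
    (hne : vecq ((Fintype.card F : ℕ) : ZMod p) c ≠ 0) : x0 p I S = kJ p I S := by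
  have hW' := rep_wo hp hA hw
  set q : ZMod p := ((Fintype.card F : ℕ) : ZMod p) with hqq
  refine x0_eq_kJ_untw hc hp hM hpF hpW hW hB hd hdp e hlen (wo M Cw) (mem_LamU hp hq hW' hcc) (mem_LamU hp hq hW' ha)
    (mem_LamU hp hq hW' hb) (fun s' t' h => ?_) (fun r hr => ?_) hne
  · have h1 : s' * vecq q a i + t' * vecq q b i = 0 := congrFun h i
    have h2 : s' * vecq q a j + t' * vecq q b j = 0 := congrFun h j
    constructor
    · have h3 : s' * (vecq q a i * vecq q b j - vecq q a j * vecq q b i) = 0 := by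
        linear_combination vecq q b j * h1 - vecq q b i * h2
      exact (mul_eq_zero.1 h3).resolve_right hdet
    · have h3 : t' * (vecq q a i * vecq q b j - vecq q a j * vecq q b i) = 0 := by
        linear_combination vecq q a i * h2 - vecq q a j * h1
      exact (mul_eq_zero.1 h3).resolve_right hdet
  · rw [lam_vecq] at hr
    have h0 : H567.KB.ev q (0 : ℤ × ℤ) = 0 := by
      unfold H567.KB.ev
      simp
    rcases hn r.1 (Finset.mem_range.2 r.2) with ⟨_, h2, h3⟩ | h1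
    · rw [lam_vecq, lam_vecq, h2, h3]
      exact ⟨h0, h0⟩
    · exact absurd hr (ev_ne_zero hq hN h1)

namespace E7

/-- the regular element -/
def b4 : (Fin 7 → ℤ) × (Fin 7 → ℤ) := (![2, 0, 0, -1, -2, 2, 2], ![0, 0, 2, 1, -2, -2, 2])

theorem b4_w : ActP (hd H567.KB.E7.w4) (0) (-1) (0, 1) b4 := by decide +kernel

theorem b4_n : ∀ r ∈ Finset.range chevE7.nroots, (dt b4 (vec chevE7 7 r) = 0 ∧ dt H567.KB.E7.a4 (vec chevE7 7 r) = 0 ∧
    dt H567.KB.E7.y4 (vec chevE7 7 r) = 0) ∨ nrm 0 (-1) (dt b4 (vec chevE7 7 r)) ∣ (80 : ℕ) := by decide +kernel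

variable {F : Type} [Field F] [Fintype F] {p : ℕ} [hpp : Fact p.Prime] {S : Type u} [Group S] [Finite S] {N : Ideal AlgInt}

theorem not_dvd_prod (h11 : 11 ≤ p) : ¬ p ∣ [2, 6, 8, 10, 12, 14, 18].prod := by
  intro h
  have hp := hpp.out
  rcases hp.dvd_mul.1 (show p ∣ (2 ^ 10 * 3 ^ 4) * (5 * 7) by norm_num at h ⊢; exact h) with h | h
  · rcases hp.dvd_mul.1 h with h | h
    · have := Nat.le_of_dvd (by norm_num) (hp.dvd_of_dvd_pow h)
      omega
    · have := Nat.le_of_dvd (by norm_num) (hp.dvd_of_dvd_pow h)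
      omega
  · rcases hp.dvd_mul.1 h with h | h
    · have := Nat.le_of_dvd (by norm_num) h
      omega
    · have := Nat.le_of_dvd (by norm_num) h
      omega

theorem not_dvd80 (h11 : 11 ≤ p) : ¬ p ∣ 80 := by
  intro h
  have hp := hpp.out
  rcases hp.dvd_mul.1 (show p ∣ 2 ^ 4 * 5 by norm_num; exact h) with h | h
  · have := Nat.le_of_dvd (by norm_num) (hp.dvd_of_dvd_pow h)
    omega
  · have := Nat.le_of_dvd (by norm_num) h
    omega

/-- **`E₇(q)`, `ord_p(q) = 4`: all members of the principal block have degree prime to `p`, if almost `p`-rational** -/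
theorem height_E7_4 (hM : IsPModular p N) (h11 : 11 ≤ p) (hpF : (p : F) ≠ 0) (e : S ≃* ↥(chevE7.group F))
    (hq : orderOf (Fintype.card F : ZMod p) = 4) : x0 p N S = kJ p N S := by
  set Q := Fintype.card F with hQ
  have hno : ∀ k, k < 4 → k ≠ 0 → (Q : ZMod p) ^ k ≠ 1 := by
    intro k hk hk0 h
    have h1 := Nat.le_of_dvd (by omega) (orderOf_dvd_of_pow_eq_one h)
    omega
  have hq4 : (Q : ZMod p) ^ 4 = 1 := by rw [← hq, pow_orderOf_eq_one]
  have hq2 : (Q : ZMod p) ^ 2 = ((0 : ℤ) : ZMod p) * Q + ((-1 : ℤ) : ZMod p) := by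
    have h1 : ((Q : ZMod p) ^ 2 - 1) * ((Q : ZMod p) ^ 2 + 1) = 0 := by linear_combination hq4
    have h2 := (mul_eq_zero.1 h1).resolve_left (sub_ne_zero.2 (hno 2 (by norm_num) (by norm_num)))
    push_cast
    linear_combination h2
  have h4 : ((4 : ℤ) : ZMod p) ≠ 0 := H567.KB.E7.cast_ne h11 2 0 0 (by norm_num)
  have h2 : ((2 : ℤ) : ZMod p) ≠ 0 := H567.KB.E7.cast_ne h11 1 0 0 (by norm_num)
  refine x0_eq_kJ_data (D := chevE7) (dg := [2, 6, 8, 10, 12, 14, 18]) (by simp) H567.KB.E7.e7T hM hpF (not_dvd_prod h11)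
    (H778.Exc.W_E7 h11) invC_E7 (by norm_num) ((Nat.coprime_primes Nat.prime_two hpp.out).2 (by omega)) e
    (by rw [hq]; decide) H567.KB.E7.hA H567.KB.E7.w4_ok hq2 H567.KB.E7.a4_w H567.KB.E7.y4_w b4_w (not_dvd80 h11) b4_n 0 5 ?_ ?_
  · have e1 : vecq (Q : ZMod p) H567.KB.E7.a4 0 = ((2 : ℤ) : ZMod p) + ((0 : ℤ) : ZMod p) * Q := rfl
    have e2 : vecq (Q : ZMod p) H567.KB.E7.y4 5 = ((2 : ℤ) : ZMod p) + ((0 : ℤ) : ZMod p) * Q := rfl
    have e3 : vecq (Q : ZMod p) H567.KB.E7.a4 5 = ((0 : ℤ) : ZMod p) + ((0 : ℤ) : ZMod p) * Q := rfl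
    rw [← hQ, e1, e2, e3]
    intro h
    apply h4
    push_cast at h ⊢
    linear_combination h
  · intro h
    have h1 : vecq (Q : ZMod p) b4 0 = ((2 : ℤ) : ZMod p) + ((0 : ℤ) : ZMod p) * Q := rfl
    rw [← hQ] at h
    rw [h, Pi.zero_apply, Int.cast_zero, zero_mul, add_zero] at h1
    exact h2 h1.symm

end E7

end Cfsg.Agent.H214.XR
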