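import Cfsg.Agent.H214.XR.ParTor
import Cfsg.Agent.H214.XR.E7Four
import Cfsg.Agent.H687.BR.RowE67

/-!
# S4791 + S4927: `E₇(q)`, `ord_p(q) = 3` : a `p`-subgroup with centralizer in the parabolic subgroup of type `E₆` (helper214)
-/

set_option autoImplicit false
set_option linter.unusedSectionVars false

namespace Cfsg.Agent.H214.XR.E7

open CoxeterSystem Cfsg Cfsg.Lie Cfsg.Lie.ChevalleyDatum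
open Cfsg.Agent.ChevalleyStructure.CoxeterGeom Cfsg.Agent.ChevalleyStructure.CoxeterGeomTypes
open Cfsg.Agent.Tits.Roots Cfsg.Agent.Tits.Core Cfsg.Agent.Nodes Cfsg.Agent.Nodes.Reps Cfsg.Agent.Nodes.RGDChev
  Cfsg.Agent.Nodes.Bruhat
open Cfsg.Agent.H129.WData Cfsg.Agent.H210.EL Cfsg.Agent.H440.TD4 Cfsg.Agent.H129.TorusChar
open Cfsg.Agent.H567.KB

universe u

/-- an element of order `3` of `W(E₆)`, no eigenvalue `1` on the root lattice of `E₆` -/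
def v3 : List (Fin 7 × Mat 7) := [
    (0, ![![0, 0, 1, 0, 0, 0, 0], ![-1, -2, -2, -3, -2, -1, 0], ![-1, 0, -1, 0, 0, 0, 0], ![1, 1, 1, 1, 1, 0, 0], ![0, 0, 0, 0, 0, 1, 0], ![0, 0, 0, 0, -1, -1, 0], ![1, 1, 2, 3, 3, 2, 1]]),
    (2, ![![1, 0, 1, 0, 0, 0, 0], ![-1, -2, -2, -3, -2, -1, 0], ![0, 0, -1, 0, 0, 0, 0], ![0, 1, 1, 1, 1, 0, 0], ![0, 0, 0, 0, 0, 1, 0], ![0, 0, 0, 0, -1, -1, 0], ![1, 1, 2, 3, 3, 2, 1]]),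
    (3, ![![1, 0, 0, 0, 0, 0, 0], ![-1, -2, -2, -3, -2, -1, 0], ![0, 0, 1, 0, 0, 0, 0], ![0, 1, 0, 1, 1, 0, 0], ![0, 0, 0, 0, 0, 1, 0], ![0, 0, 0, 0, -1, -1, 0], ![1, 1, 2, 3, 3, 2, 1]]),
    (2, ![![1, 0, 0, 0, 0, 0, 0], ![-1, -2, -2, -3, -2, -1, 0], ![0, 0, 1, 1, 0, 0, 0], ![0, 1, 0, 1, 1, 0, 0], ![0, 0, 0, 0, 0, 1, 0], ![0, 0, 0, -1, -1, -1, 0], ![1, 1, 2, 3, 3, 2, 1]]),
    (0, ![![1, 0, 1, 0, 0, 0, 0], ![-1, -2, -2, -3, -2, -1, 0], ![0, 0, 0, 1, 0, 0, 0], ![0, 1, 1, 1, 1, 0, 0], ![0, 0, 0, 0, 0, 1, 0], ![0, 0, -1, -1, -1, -1, 0], ![1, 1, 2, 3, 3, 2, 1]]),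
    (4, ![![0, 0, 1, 0, 0, 0, 0], ![-1, -2, -2, -3, -2, -1, 0], ![0, 0, 0, 1, 0, 0, 0], ![1, 1, 1, 1, 1, 0, 0], ![0, 0, 0, 0, 0, 1, 0], ![-1, 0, -1, -1, -1, -1, 0], ![1, 1, 2, 3, 3, 2, 1]]),
    (3, ![![0, 0, 1, 0, 0, 0, 0], ![-1, -2, -2, -3, -2, -1, 0], ![0, 0, 0, 1, 1, 0, 0], ![1, 1, 1, 1, 0, 0, 0], ![0, 0, 0, 0, 1, 1, 0], ![-1, 0, -1, -1, -1, -1, 0], ![1, 1, 2, 3, 2, 2, 1]]),
    (1, ![![0, 0, 1, 1, 0, 0, 0], ![-1, -2, -2, -3, -2, -1, 0], ![0, 0, 0, 0, 1, 0, 0], ![1, 1, 1, 1, 0, 0, 0], ![0, 0, 0, 1, 1, 1, 0], ![-1, 0, -1, -1, -1, -1, 0], ![1, 1, 2, 2, 2, 2, 1]]),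
    (2, ![![0, 1, 1, 1, 0, 0, 0], ![-1, -1, -2, -3, -2, -1, 0], ![0, 0, 0, 0, 1, 0, 0], ![1, 0, 1, 1, 0, 0, 0], ![0, 1, 0, 1, 1, 1, 0], ![-1, -1, -1, -1, -1, -1, 0], ![1, 1, 2, 2, 2, 2, 1]]),
    (0, ![![0, 1, 0, 1, 0, 0, 0], ![-1, -1, -2, -3, -2, -1, 0], ![0, 0, 0, 0, 1, 0, 0], ![1, 0, 1, 1, 0, 0, 0], ![0, 1, 1, 1, 1, 1, 0], ![-1, -1, -1, -1, -1, -1, 0], ![1, 1, 1, 2, 2, 2, 1]]),
    (3, ![![0, 1, 0, 1, 0, 0, 0], ![-1, -1, -2, -3, -2, -1, 0], ![0, 0, 0, 0, 1, 0, 0], ![0, 0, 1, 1, 0, 0, 0], ![1, 1, 1, 1, 1, 1, 0], ![0, -1, -1, -1, -1, -1, 0], ![0, 1, 1, 2, 2, 2, 1]]),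
    (4, ![![0, 1, 0, 0, 0, 0, 0], ![-1, -1, -2, -2, -2, -1, 0], ![0, 0, 0, 1, 1, 0, 0], ![0, 0, 1, 0, 0, 0, 0], ![1, 1, 1, 2, 1, 1, 0], ![0, -1, -1, -2, -1, -1, 0], ![0, 1, 1, 2, 2, 2, 1]]),
    (5, ![![0, 1, 0, 0, 0, 0, 0], ![-1, -1, -2, -2, -1, -1, 0], ![0, 0, 0, 1, 0, 0, 0], ![0, 0, 1, 0, 0, 0, 0], ![1, 1, 1, 2, 2, 1, 0], ![0, -1, -1, -2, -2, -1, 0], ![0, 1, 1, 2, 2, 2, 1]]),
    (4, ![![0, 1, 0, 0, 0, 0, 0], ![-1, -1, -2, -2, -1, 0, 0], ![0, 0, 0, 1, 0, 0, 0], ![0, 0, 1, 0, 0, 0, 0], ![1, 1, 1, 2, 2, 1, 0], ![0, -1, -1, -2, -2, -1, 0], ![0, 1, 1, 2, 2, 1, 1]]),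
    (3, ![![0, 1, 0, 0, 0, 0, 0], ![-1, -1, -2, -2, -1, 0, 0], ![0, 0, 0, 1, 1, 0, 0], ![0, 0, 1, 0, 0, 0, 0], ![1, 1, 1, 2, 1, 1, 0], ![0, -1, -1, -2, -1, -1, 0], ![0, 1, 1, 2, 1, 1, 1]]),
    (1, ![![0, 1, 0, 1, 0, 0, 0], ![-1, -1, -2, -2, -1, 0, 0], ![0, 0, 0, 0, 1, 0, 0], ![0, 0, 1, 1, 0, 0, 0], ![1, 1, 1, 1, 1, 1, 0], ![0, -1, -1, -1, -1, -1, 0], ![0, 1, 1, 1, 1, 1, 1]]),
    (2, ![![0, 0, 0, 1, 0, 0, 0], ![-1, -1, -2, -2, -1, 0, 0], ![0, 0, 0, 0, 1, 0, 0], ![0, 1, 1, 1, 0, 0, 0], ![1, 0, 1, 1, 1, 1, 0], ![0, 0, -1, -1, -1, -1, 0], ![0, 0, 1, 1, 1, 1, 1]]),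
    (0, ![![0, 0, 1, 1, 0, 0, 0], ![-1, -1, -1, -2, -1, 0, 0], ![0, 0, 0, 0, 1, 0, 0], ![0, 1, 0, 1, 0, 0, 0], ![1, 0, 1, 1, 1, 1, 0], ![0, 0, 0, -1, -1, -1, 0], ![0, 0, 0, 1, 1, 1, 1]]),
    (3, ![![1, 0, 1, 1, 0, 0, 0], ![0, -1, -1, -2, -1, 0, 0], ![0, 0, 0, 0, 1, 0, 0], ![0, 1, 0, 1, 0, 0, 0], ![0, 0, 1, 1, 1, 1, 0], ![0, 0, 0, -1, -1, -1, 0], ![0, 0, 0, 1, 1, 1, 1]]),
    (2, ![![1, 0, 1, 0, 0, 0, 0], ![0, -1, -1, -1, -1, 0, 0], ![0, 0, 0, 1, 1, 0, 0], ![0, 1, 0, 0, 0, 0, 0], ![0, 0, 1, 1, 1, 1, 0], ![0, 0, 0, 0, -1, -1, 0], ![0, 0, 0, 0, 1, 1, 1]]),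
    (4, ![![1, 0, 0, 0, 0, 0, 0], ![0, -1, 0, -1, -1, 0, 0], ![0, 0, 1, 1, 1, 0, 0], ![0, 1, 0, 0, 0, 0, 0], ![0, 0, 0, 1, 1, 1, 0], ![0, 0, 0, 0, -1, -1, 0], ![0, 0, 0, 0, 1, 1, 1]]),
    (3, ![![1, 0, 0, 0, 0, 0, 0], ![0, -1, 0, -1, 0, 0, 0], ![0, 0, 1, 1, 0, 0, 0], ![0, 1, 0, 0, 0, 0, 0], ![0, 0, 0, 1, 1, 1, 0], ![0, 0, 0, 0, 0, -1, 0], ![0, 0, 0, 0, 0, 1, 1]]),
    (1, ![![1, 0, 0, 0, 0, 0, 0], ![0, -1, 0, 0, 0, 0, 0], ![0, 0, 1, 0, 0, 0, 0], ![0, 1, 0, 1, 0, 0, 0], ![0, 0, 0, 0, 1, 1, 0], ![0, 0, 0, 0, 0, -1, 0], ![0, 0, 0, 0, 0, 1, 1]]),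
    (5, ![![1, 0, 0, 0, 0, 0, 0], ![0, 1, 0, 0, 0, 0, 0], ![0, 0, 1, 0, 0, 0, 0], ![0, 0, 0, 1, 0, 0, 0], ![0, 0, 0, 0, 1, 1, 0], ![0, 0, 0, 0, 0, -1, 0], ![0, 0, 0, 0, 0, 1, 1]])]

/-- two functionals in the eigenspace on which no root vanishes -/
def c1 : (Fin 7 → ℤ) × (Fin 7 → ℤ) := (![0, -1, -3, 2, 1, 1, -2], ![3, 1, -3, 1, -1, 2, -2])
def c2 : (Fin 7 → ℤ) × (Fin 7 → ℤ) := (![0, -2, -3, 3, -1, 2, -1], ![3, -1, -3, 3, -2, 1, -1])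

theorem v3_ok : ChainOK H567.KB.E7.Am v3 := by decide +kernel
theorem v3_mem : ∀ i ∈ v3.map Prod.fst, i ∈ ({0, 1, 2, 3, 4, 5} : Finset (Fin 7)) := by decide +kernel
theorem c1_w : ActP (hd v3) (-1) (-1) (0, 1) c1 := by decide +kernel
theorem c2_w : ActP (hd v3) (-1) (-1) (0, 1) c2 := by decide +kernel
theorem c_n : ∀ r ∈ Finset.range chevE7.nroots, nrm (-1) (-1) (dt c1 (vec chevE7 7 r)) ∣ (36 : ℕ) ∨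
    nrm (-1) (-1) (dt c2 (vec chevE7 7 r)) ∣ (36 : ℕ) := by decide +kernel

theorem wordProd_mem {I W : Type*} [Group W] {M : CoxeterMatrix I} (cs : CoxeterSystem M W) {J : Set I} {ω : List I}
    (h : ∀ i ∈ ω, i ∈ J) : cs.wordProd ω ∈ WJ cs J := by
  induction ω with
  | nil =>
    rw [CoxeterSystem.wordProd_nil]
    exact one_mem _
  | cons i ω ih =>
    rw [CoxeterSystem.wordProd_cons]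
    exact mul_mem (Subgroup.subset_closure ⟨i, h i (by simp), rfl⟩) (ih fun j hj => h j (by simp [hj]))

variable {F : Type} [Field F] [Fintype F] {p : ℕ} [hpp : Fact p.Prime]

/-- **K1** -/
theorem exists_A (h11 : 11 ≤ p) (hpF : (p : F) ≠ 0) (hq : orderOf (Fintype.card F : ZMod p) = 3) :
    ∃ A : Subgroup ↥(chevE7.group F), IsPGroup p A ∧
      Subgroup.centralizer (A : Set ↥(chevE7.group F)) ≤ H687.BR.Pa H35.ExcIdx.hpE7 F {0, 1, 2, 3, 4, 5} := by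
  set Q := Fintype.card F with hQ
  have hq1 : (Q : ZMod p) ≠ 1 := by
    intro h
    rw [h, orderOf_one] at hq
    omega
  have hq3 : (Q : ZMod p) ^ 3 = 1 := by rw [← hq, pow_orderOf_eq_one]
  have hq2 : (Q : ZMod p) ^ 2 = ((-1 : ℤ) : ZMod p) * Q + ((-1 : ℤ) : ZMod p) := by
    have h1 : ((Q : ZMod p) - 1) * ((Q : ZMod p) ^ 2 + Q + 1) = 0 := by linear_combination hq3
    have h2 := (mul_eq_zero.1 h1).resolve_left (sub_ne_zero.2 hq1)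
    push_cast
    linear_combination h2
  have hcen : Subgroup.center ↥(chevE7.group (AlgebraicClosure F)) = ⊥ :=
    H696.GmnUntw.center_eq_bot_of_simple (S1054.result (F := AlgebraicClosure F) chevE7 (by simp))
  have hW := rep_wo (M := CoxeterMatrix.E₇) H567.KB.E7.e7T H567.KB.E7.hA v3_ok
  have hwJ : wo CoxeterMatrix.E₇ v3 ∈ WJ CoxeterMatrix.E₇.toCoxeterSystem
      ({j | j ∈ ({0, 1, 2, 3, 4, 5} : Finset (Fin 7))} : Set (Fin 7)) :=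
    wordProd_mem _ v3_mem
  obtain ⟨A, hA1, hA2⟩ := exists_sub_par H567.KB.E7.e7T hpF (H778.Exc.W_E7 h11) invC_E7 (by norm_num)
    ((Nat.coprime_primes Nat.prime_two hpp.out).2 (by omega)) hcen hwJ (fun s => by
      rcases c_n s.1 (Finset.mem_range.2 s.2) with h | h
      · refine ⟨_, mem_LamU _ hq2 hW c1_w, ?_⟩
        rw [lam_vecq]
        exact H567.KB.ev_ne_zero hq2 (H567.KB.E7.not_dvd36 h11) h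
      · refine ⟨_, mem_LamU _ hq2 hW c2_w, ?_⟩
        rw [lam_vecq]
        exact H567.KB.ev_ne_zero hq2 (H567.KB.E7.not_dvd36 h11) h)
  exact ⟨A, hA1, hA2⟩

end Cfsg.Agent.H214.XR.E7
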