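import Cfsg.Agent.H626.ExtB.Chev
import Cfsg.Agent.H674.XZ.Base
import Cfsg.Agent.H508.XR.Defs2
import Cfsg.Agent.H687.BR.CntPar
import Cfsg.Agent.H603.AP.Hat

/-!
# `ExtY` with two characters, from permutation characters  (helper214; S4791, S4927)

* `exists_extX` : `p` divides `|A : K|`, `A` and its normal subgroup `S` have the same orbits on pairs of cosets of `K`: a
  member of `X₀(A)` with irreducible, nontrivial restriction to `S`;
* `extY_of_stable`, `extY_chev`, `extY_E7`, `extY_E8`.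
-/

set_option autoImplicit false
set_option linter.unusedSectionVars false

namespace Cfsg.Agent.H214.XR

open Cfsg Subgroup Cfsg.Lie
open Cfsg.Agent.ChevalleyStructure Cfsg.Agent.ChevalleyStructure.Elts
open Cfsg.Agent.Characters.Core Cfsg.Agent.H674.XZ Cfsg.Agent.H508.XR Cfsg.Agent.H626.ExtB.Perm
open Cfsg.Agent.H145.BR (permC cnt)
open scoped ComplexConjugate

universe u

section perm

variable {A : Type u} [Group A] [Finite A] {p : ℕ} [hpp : Fact p.Prime] {M : Ideal AlgInt}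

/-- the trivial character -/
noncomputable def oneX (A : Type u) [Group A] : IrrCharacter A := ⟨fun _ => 1, isIrr_one⟩

/-- the trivial character is a member of `X₀` -/
theorem mem0_one (hM : IsPModular p M) : Mem0 p M (oneX A) := by
  refine ⟨Cfsg.Agent.H603.AP.one_mem hM, ?_, alm_of_rat fun g => ⟨1, by show (1 : ℂ) = _; norm_num⟩⟩
  have h1 : charDegree ((oneX A : IrrCharacter A) : A → ℂ) = 1 := by
    exact Cfsg.Agent.Blocks.Basic.charDegree_of_eq (by show (1 : ℂ) = _; norm_num)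
  rw [h1]
  exact hpp.out.one_lt.ne' ∘ Nat.dvd_one.1

/-- a member of `X₀` in a permutation character of degree divisible by `p` -/
theorem exists_mem0_perm (hM : IsPModular p M) (K : Subgroup A) (hp : p ∣ K.index) [Fintype A] :
    ∃ ψ : IrrCharacter A, Mem0 p M ψ ∧ (ψ : A → ℂ) ≠ (fun _ => 1) ∧
      classInner (fixedPointCharacter K) (ψ : A → ℂ) ≠ 0 := by
  classical
  have P : Sylow p A := default
  have hsub : Subsingleton (A ⧸ (⊤ : Subgroup A)) := QuotientGroup.subsingleton_quotient_top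
  have h1 := (FV.perm hM P (A ⧸ K)).sub (FV.perm hM P (A ⧸ (⊤ : Subgroup A)))
  have h2 : cnt (P : Subgroup A) (A ⧸ (⊤ : Subgroup A)) = 1 := by
    unfold cnt
    rw [Nat.card_eq_one_iff_unique]
    refine ⟨⟨fun a b => ?_⟩, ⟨Quot.mk _ ⟨QuotientGroup.mk 1, fun _ _ => Subsingleton.elim _ _⟩⟩⟩
    induction a using Quot.inductionOn with
    | _ a =>
      induction b using Quot.inductionOn with
      | _ b => exact congrArg _ (Subtype.ext (Subsingleton.elim _ _))
  rw [Cfsg.Agent.H687.BR.cnt_zero P K hp, h2] at h1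
  obtain ⟨χ, h3, h4⟩ := h1.exists_mem0 (by
    intro h
    have h5 : (p : ℤ) ∣ 1 := by
      have := (dvd_neg (a := (p : ℤ))).2 h
      norm_num at this
      exact this
    have h6 : p ∣ 1 := by exact_mod_cast h5
    exact hpp.out.one_lt.ne' (Nat.dvd_one.1 h6))
  have e1 : permC A (A ⧸ (⊤ : Subgroup A)) = fun _ => (1 : ℂ) := by
    funext a
    show ((Nat.card (MulAction.fixedBy (A ⧸ (⊤ : Subgroup A)) a) : ℕ) : ℂ) = 1
    have : Nat.card (MulAction.fixedBy (A ⧸ (⊤ : Subgroup A)) a) = 1 := by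
      rw [Nat.card_eq_one_iff_unique]
      exact ⟨⟨fun a b => Subtype.ext (Subsingleton.elim _ _)⟩, ⟨⟨QuotientGroup.mk 1, Subsingleton.elim _ _⟩⟩⟩
    rw [this, Nat.cast_one]
  rw [ip_sub, ip_eq, ip_eq, e1] at h4
  have hne : (χ : A → ℂ) ≠ fun _ => 1 := by
    intro h5
    apply h4
    have h6 : classInner (permC A (A ⧸ K)) (χ : A → ℂ) = 1 := by
      have h7 := Cfsg.Agent.H139.RealB0.Crit.classInner_fixedPointCharacter K χ
      have h8 : permC A (A ⧸ K) = fixedPointCharacter K := rfl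
      rw [h8, h7, h5]
      simp
    have h7 : classInner (fun _ : A => (1 : ℂ)) (χ : A → ℂ) = 1 := by
      rw [h5]
      exact classInner_irr_self isIrr_one
    rw [h6, h7, sub_self]
  refine ⟨χ, h3, hne, ?_⟩
  have h5 : classInner (fun _ : A => (1 : ℂ)) (χ : A → ℂ) = 0 :=
    classInner_irr_ne isIrr_one χ.2 (fun h => hne h.symm)
  rw [h5, sub_zero] at h4
  exact h4

/-- **A member of `X₀` with irreducible, nontrivial restriction.** -/
theorem exists_extX (hM : IsPModular p M) (S K : Subgroup A) (hp : p ∣ K.index) (h : SamePairs S K) :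
    ∃ ψ : IrrCharacter A, Mem0 p M ψ ∧ IsIrrCharacter S (fun s : S => (ψ : A → ℂ) (s : A)) ∧
      ∃ s : S, (ψ : A → ℂ) (s : A) ≠ 1 := by
  classical
  have hK : Fintype K := Fintype.ofFinite _
  have hA : Fintype A := Fintype.ofFinite _
  obtain ⟨ψ, h1, h2, h4⟩ := exists_mem0_perm hM K hp
  have h3 : ∑ k : K, (ψ : A → ℂ) (k : A) ≠ 0 := by
    intro h5
    apply h4
    rw [Cfsg.Agent.H139.RealB0.Crit.classInner_fixedPointCharacter, ← map_sum, h5, map_zero, mul_zero]
  refine ⟨ψ, h1, irr_restrict S K h ψ h4, ?_⟩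
  by_contra hcon
  push Not at hcon
  -- `ψ` is linear, trivial on `S` and on `K`
  have hψ1 : (ψ : A → ℂ) 1 = 1 := hcon 1
  have hlin : ∀ a b : A, (ψ : A → ℂ) (a * b) = (ψ : A → ℂ) a * (ψ : A → ℂ) b := by
    intro a b
    obtain ⟨f, hf⟩ := Cfsg.Agent.Characters.Linear.exists_hom_of_isIrrCharacter ψ.2 hψ1
    rw [hf]
    simp
  have hk : ∀ k : K, (ψ : A → ℂ) k = 1 := by
    intro k
    have h5 : ∑ k' : K, (ψ : A → ℂ) ((k * k' : K) : A) = ∑ k' : K, (ψ : A → ℂ) (k' : A) :=
      Fintype.sum_equiv (Equiv.mulLeft k) _ _ fun k' => rfl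
    have h6 : ∑ k' : K, (ψ : A → ℂ) ((k * k' : K) : A) = (ψ : A → ℂ) k * ∑ k' : K, (ψ : A → ℂ) (k' : A) := by
      rw [Finset.mul_sum]
      refine Finset.sum_congr rfl fun k' _ => ?_
      rw [Subgroup.coe_mul, hlin]
    rw [h6] at h5
    exact mul_right_cancel₀ h3 (h5.trans (one_mul _).symm)
  apply h2
  funext a
  obtain ⟨s, hs, h5, -⟩ := h a (QuotientGroup.mk 1) (QuotientGroup.mk 1)
  have h6 : s⁻¹ * a ∈ K := by
    have h7 : (QuotientGroup.mk (s * 1) : A ⧸ K) = QuotientGroup.mk (a * 1) := h5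
    rw [mul_one, mul_one, QuotientGroup.eq] at h7
    exact h7
  have h7 : a = s * (s⁻¹ * a) := by group
  rw [h7, hlin, hcon ⟨s, hs⟩, hk ⟨_, h6⟩, mul_one]

end perm

section ext

variable {S : Type u} [Group S] [Finite S] {p : ℕ} [hpp : Fact p.Prime] {M : Ideal AlgInt}

/-- from one member of `X₀(A)` -/
theorem extY_of_one (hM : IsPModular p M)
    (h : ∀ (A : Type u) [Group A] [Finite A] (f : S →* A), Function.Injective f → f.range.Normal →
      centralizer (f.range : Set A) = ⊥ → ¬ p ∣ f.range.index →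
      ∃ ψ : IrrCharacter A, Mem0 p M ψ ∧ IsIrrCharacter S (fun s => (ψ : A → ℂ) (f s)) ∧
        ∃ s : S, (ψ : A → ℂ) (f s) ≠ 1) : ExtY p M S 2 := by
  intro A _ _ f hf hn hc hi
  obtain ⟨ψ, h1, h2, s, h3⟩ := h A f hf hn hc hi
  refine ⟨![oneX A, ψ], ?_, ?_⟩
  · intro i
    fin_cases i
    · exact ⟨mem0_one hM, isIrr_one⟩
    · exact ⟨h1, h2⟩
  · intro i j hij
    fin_cases i <;> fin_cases j
    · rfl
    · exact absurd (hij s).symm h3
    · exact absurd (hij s) h3
    · rfl

/-- **`ExtY` from a subgroup whose permutation character behaves well under automorphisms.** -/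
theorem extY_of_stable (hM : IsPModular p M) (H : Subgroup S) (hst : Stable H)
    (hp : p ∣ H.index) : ExtY p M S 2 := by
  apply extY_of_one hM
  intro A _ _ f hf hn _ _
  classical
  set N : Subgroup A := f.range with hN
  set K : Subgroup A := normalizer ((H.map f : Subgroup A) : Set A) with hK
  -- elements of `K`
  have hmem : ∀ a : A, (∀ x ∈ H, a * f x * a⁻¹ ∈ H.map f) → a ∈ K := by
    intro a ha
    refine mem_normalizer_fintype fun n hn => ?_
    obtain ⟨x, hx, rfl⟩ := hn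
    exact ha x hx
  have hpres : ∀ a ∈ K, ∀ x ∈ H, a * f x * a⁻¹ ∈ H.map f := fun a ha x hx =>
    (Subgroup.mem_normalizer_iff.1 ha _).1 ⟨x, hx, rfl⟩
  have hmap : ∀ s : S, f s ∈ H.map f → s ∈ H := by
    rintro s ⟨t, ht, he⟩
    rwa [← hf he]
  -- `A = S K`
  have hSK : ∀ a : A, ∃ s : S, (f s)⁻¹ * a ∈ K := by
    intro a
    obtain ⟨α, hα⟩ := exists_aut f hf hn a
    obtain ⟨s, hs⟩ := hst.cls α
    refine ⟨s⁻¹, hmem _ fun x hx => ?_⟩
    refine ⟨s * α x * s⁻¹, hs x hx, ?_⟩
    rw [map_mul, map_mul, hα, map_inv]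
    group
  have hinf : ∀ s : S, f s ∈ K ↔ s ∈ H := by
    intro s
    constructor
    · intro h
      refine hst.self s fun x hx => hmap _ ?_
      rw [map_mul, map_mul, map_inv]
      exact hpres _ h x hx
    · intro h
      refine hmem _ fun x hx => ⟨s * x * s⁻¹, mul_mem (mul_mem h hx) (inv_mem h), ?_⟩
      rw [map_mul, map_mul, map_inv]
  -- the index
  have hidx : K.index = H.index := by
    refine (Nat.card_congr (Equiv.ofBijective (fun x : S ⧸ H => Quotient.liftOn' x
      (fun s => (QuotientGroup.mk (f s) : A ⧸ K)) ?_) ⟨?_, ?_⟩)).symm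
    · intro s t hst'
      have h1 : s⁻¹ * t ∈ H := QuotientGroup.leftRel_apply.1 hst'
      rw [QuotientGroup.eq, ← map_inv, ← map_mul]
      exact (hinf _).2 h1
    · intro x y
      induction x using QuotientGroup.induction_on with
      | _ s =>
      induction y using QuotientGroup.induction_on with
      | _ t =>
      intro h
      have h1 : (QuotientGroup.mk (f s) : A ⧸ K) = QuotientGroup.mk (f t) := h
      rw [QuotientGroup.eq, ← map_inv, ← map_mul, hinf] at h1
      exact QuotientGroup.eq.2 h1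
    · intro y
      induction y using QuotientGroup.induction_on with
      | _ a =>
      obtain ⟨s, hs⟩ := hSK a
      exact ⟨QuotientGroup.mk s, QuotientGroup.eq.2 hs⟩
  have hpair : SamePairs N K := by
    intro a x y
    have hrep : ∀ z : A ⧸ K, ∃ s : S, z = QuotientGroup.mk (f s) := by
      intro z
      induction z using QuotientGroup.induction_on with
      | _ b =>
      obtain ⟨s, hs⟩ := hSK b
      exact ⟨s, (QuotientGroup.eq.2 hs).symm⟩
    obtain ⟨s₁, rfl⟩ := hrep x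
    obtain ⟨s₂, rfl⟩ := hrep y
    obtain ⟨t, ht⟩ := hSK (a * f s₁)
    set k : A := (f t)⁻¹ * (a * f s₁) with hk
    obtain ⟨α, hα⟩ := exists_aut f hf hn k
    obtain ⟨h, hh, h', hh', hd⟩ := hst.double α (fun x hx => hmap _ (by rw [hα]; exact hpres k ht x hx)) (s₁⁻¹ * s₂)
    refine ⟨f (t * h * s₁⁻¹), ⟨_, rfl⟩, ?_, ?_⟩
    · show (QuotientGroup.mk (f (t * h * s₁⁻¹) * f s₁) : A ⧸ K) = QuotientGroup.mk (a * f s₁)
      rw [QuotientGroup.eq]
      have e : (f (t * h * s₁⁻¹) * f s₁)⁻¹ * (a * f s₁) = f h⁻¹ * k := by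
        rw [hk, map_mul, map_mul, map_inv, map_inv]
        group
      rw [e]
      exact mul_mem ((hinf _).2 (inv_mem hh)) ht
    · show (QuotientGroup.mk (f (t * h * s₁⁻¹) * f s₂) : A ⧸ K) = QuotientGroup.mk (a * f s₂)
      rw [QuotientGroup.eq]
      have e : (f (t * h * s₁⁻¹) * f s₂)⁻¹ * (a * f s₂) = f h' * k := by
        have h1 : a * f s₂ = f t * (k * f (s₁⁻¹ * s₂) * k⁻¹) * k := by
          rw [hk, map_mul, map_inv]
          group
        rw [h1, ← hα, hd, map_mul, map_mul, map_mul, map_mul, map_mul, map_inv]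
        group
      rw [e]
      exact mul_mem ((hinf _).2 hh') ht
  obtain ⟨ψ, h1, h2, s, h3⟩ := exists_extX hM N K (hidx ▸ hp) hpair
  refine ⟨ψ, h1, ?_, ?_⟩
  · exact isIrr_comp f.rangeRestrict f.rangeRestrict_surjective h2
  · obtain ⟨x, hx⟩ := s.2
    refine ⟨x, ?_⟩
    rw [hx]
    exact h3

end ext

section chev

open Cfsg.Agent.H626.ExtB.Chev

variable {D : ChevalleyDatum} {p : ℕ} [hpp : Fact p.Prime] {M : Ideal AlgInt}

/-- **`ExtY` for a tabulated Chevalley group whose diagram has no symmetry.** -/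
theorem extY_chev (hM : IsPModular p M) (hD : InList D) {F : Type} [Field F]
    [Fintype F] {r : ℕ} [Fact r.Prime] [CharP F r] (hrp : r ≠ p) (h1 : ¬ p ∣ Fintype.card F - 1) (k : ℕ)
    (hk : ∀ i j, walk (Cfsg.Agent.Schreier.Chev.adj D) k i = walk (Cfsg.Agent.Schreier.Chev.adj D) k j → i = j)
    {S : Type u} [Group S] [Finite S] (hS : p ∣ Nat.card S) (e : Nonempty (S ≃* ↥(D.group F))) : ExtY p M S 2 := by
  obtain ⟨e⟩ := e
  refine extY_of_stable hM _ (stable_comap e (stable_BB F hD r k hk)) ?_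
  rw [Subgroup.index_comap_of_surjective _ e.surjective]
  rw [Nat.card_congr e.toEquiv, ← Subgroup.index_mul_card (Cfsg.Agent.Schreier.ChevLocal.BB D F)] at hS
  exact (hpp.out.dvd_mul.1 hS).resolve_right (not_dvd_BB F hD hpp.out hrp h1)

/-- **`ExtY` for `E₈(q)`.** -/
theorem extY_E8 (hM : IsPModular p M) {F : Type} [Field F]
    [Fintype F] {r : ℕ} [Fact r.Prime] [CharP F r] (hrp : r ≠ p) (h1 : ¬ p ∣ Fintype.card F - 1)
    {S : Type u} [Group S] [Finite S] (hS : p ∣ Nat.card S) (e : Nonempty (S ≃* chevE8.group F)) : ExtY p M S 2 :=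
  extY_chev hM (D := chevE8) (by simp) hrp h1 3 walk_e8 hS e

/-- **`ExtY` for `E₇(q)`.** -/
theorem extY_E7 (hM : IsPModular p M) {F : Type} [Field F]
    [Fintype F] {r : ℕ} [Fact r.Prime] [CharP F r] (hrp : r ≠ p) (h1 : ¬ p ∣ Fintype.card F - 1)
    {S : Type u} [Group S] [Finite S] (hS : p ∣ Nat.card S) (e : Nonempty (S ≃* chevE7.group F)) : ExtY p M S 2 :=
  extY_chev hM (D := chevE7) (by simp) hrp h1 5 walk_e7 hS e

end chev

end Cfsg.Agent.H214.XR
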