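import Cfsg.Agent.H214.XR.RankTwoU
import Cfsg.Agent.H798.OZ.Ell

/-!
# S4791 + S4927: tori of parabolic subgroups (helper214)

`exists_parC` : `w ∈ W_J`: the torus model of `w` (elements of order `p`) in `D.group F` can be chosen such that for every set
`Z` in the eigenspace on which no root vanishes the common centralizer of the elements `X c`, `c ∈ Z`, is contained in `P_J`.

`exists_sub_par` : a `p`-subgroup `A` of `D.group F` with `C(A) ≤ P_J`.
-/

set_option autoImplicit false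
set_option linter.unusedSectionVars false

namespace Cfsg.Agent.H214.XR

open CoxeterSystem Cfsg Cfsg.Lie Cfsg.Lie.ChevalleyDatum
open Cfsg.Agent.ChevalleyStructure Cfsg.Agent.ChevalleyStructure.Elts Cfsg.Agent.ChevalleyStructure.CoxeterGeom
  Cfsg.Agent.ChevalleyStructure.CoxeterGeomTypes Cfsg.Agent.ChevalleyStructure.NPerm
open Cfsg.Agent.Tits.Roots Cfsg.Agent.Tits.Core Cfsg.Agent.Nodes Cfsg.Agent.Nodes.Reps Cfsg.Agent.Nodes.BNOf
  Cfsg.Agent.Nodes.RGDChev Cfsg.Agent.Nodes.Bruhat Cfsg.Agent.Nodes.StabComb Cfsg.Agent.Nodes.LeviDec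
open Cfsg.Agent.KFacts.RgdField Cfsg.Agent.KFacts.RgdChevCoord Cfsg.Agent.BpExc.TorCent Cfsg.Agent.BpExc.TorChev
open Cfsg.Agent.GpExc.Field Cfsg.Agent.BpExc.Tow Cfsg.Agent.BpExc.TowChev Cfsg.Agent.BpExc.Fr
  Cfsg.Agent.BpExc.LangFr Cfsg.Agent.H795.SetCent Cfsg.Agent.H795.Toral Cfsg.Agent.H795.Core
  Cfsg.Agent.H795.RootConn Cfsg.Agent.H795.SetTor Cfsg.Agent.H129.TorusChar Cfsg.Agent.H129.TorusUntw
  Cfsg.Agent.H129.WData Cfsg.Agent.H795.Reduce Cfsg.Agent.H795.LangT Cfsg.Agent.H123.ExcZ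
  Cfsg.Agent.BpExc Cfsg.Agent.H210.EL Cfsg.Agent.H352.KE Cfsg.Agent.H440.TD4 Cfsg.Agent.H795.Untw
open Cfsg.Agent.H567.KB (LamU)
open Cfsg.Agent.H208.XR (TT_comm)

universe u v

variable {D : ChevalleyDatum} {l : ℕ} {M : CoxeterMatrix (Fin l)} (hp : IsType D l M)

section K

variable {k : Type u} [Field k] [IsAlgClosed k] {r e : ℕ} [hr : Fact r.Prime] [CharP k r] (hk : LocFin k)

include hr hk in
/-- the elements which commute with a set of `p`-elements of the torus on which no root is trivial are in the torus -/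
theorem mem_TT_of_comm {p : ℕ} (hpp : p.Prime) (hW : ¬ p ∣ Nat.card M.Group) {Z : Set ↥(D.group k)} (hfin : Z.Finite)
    (hZ : Z ⊆ TT D k) (hZp : ∀ t ∈ Z, ∃ m : ℕ, t ^ p ^ m = 1)
    (hroot : ∀ s : Fin D.nroots, ∃ t ∈ Z, cX hp t (vec D l s) ≠ 1) {c : ↥(D.group k)}
    (hc : ∀ t ∈ Z, c * t = t * c) : c ∈ TT D k := by
  have hWf := finite_W hp (M.toCoxeterSystem)
  have H := tow (k := k) hp M.toCoxeterSystem hk r
  have hTL := TL_eq (k := k) hp hk
  have C : Coords M.toCoxeterSystem hp.isCartan (TL (Tj hp (k := k))) (nc hp k) (XL (Xj hp)) (xc hp) (ch hp) := by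
    rw [TL_eq hp hk, XL_eq hp hk]
    exact coordsL hp M.toCoxeterSystem hk r
  have hA : ChAdd M.toCoxeterSystem hp.isCartan (TL (Tj hp (k := k))) (ch (K := k) hp) := by
    rw [hTL]; exact chAddL (k := k) hp M.toCoxeterSystem hk r
  have hG := GG_eq_top (k := k) hp M.toCoxeterSystem hk
  have hW2 : ¬ p ^ 2 ∣ Nat.card M.Group := fun h => hW (dvd_trans (dvd_pow_self p two_ne_zero) h)
  obtain ⟨m, hm, t0, ht0, rfl⟩ := exists_form_MMT H C hG hA (Z := Z) hfin (by rw [hTL]; exact hZ) hpp hZp hW2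
    (tors_of_not_dvd hW) (c := c) hc
  have h0 : SxZ M.toCoxeterSystem hp.isCartan (ch hp) Z = ∅ := by
    rw [Set.eq_empty_iff_forall_notMem]
    rintro a ⟨ha, ha1⟩
    obtain ⟨s, hs, rfl⟩ := (isRoot_iff hp M.toCoxeterSystem a).1 ha
    obtain ⟨t, ht, ht1⟩ := hroot ⟨s, hs⟩
    apply ht1
    rw [cX_root hp M.toCoxeterSystem (hZ ht) ha]
    exact ha1 t ht
  have h1 : m = 1 := by
    unfold MMZ at hm
    rw [h0] at hm
    have h2 : RGD.Sup (XL (Xj hp (k := k))) (∅ : Set (Fin l → ℤ)) ≤ ⊥ := RGD.Sup_le fun a ha => absurd ha (Set.notMem_empty a)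
    exact Subgroup.mem_bot.1 (h2 hm)
  rw [h1, one_mul]
  rwa [hTL] at ht0

end K

/-- **The model in `D.group F` for `w ∈ W_J`.** -/
theorem exists_parC {F : Type u} [Field F] [Fintype F] {p : ℕ} [hpp : Fact p.Prime] (hpF : (p : F) ≠ 0)
    (hW : ¬ p ∣ Nat.card M.Group) {d : ℕ} {B : Fin l → Fin l → ℤ} (hB : InvC D l d B) (hd : d ≠ 0) (hdp : d.Coprime p)
    (hcen : Subgroup.center ↥(D.group (AlgebraicClosure F)) = ⊥) {J : Set (Fin l)}
    {w : M.Group} (hwJ : w ∈ WJ M.toCoxeterSystem J) : ∃ X : (Fin l → ZMod p) → ↥(D.group F),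
      (∀ c ∈ LamU hp p (Fintype.card F) w, ∀ c' ∈ LamU hp p (Fintype.card F) w, X (c + c') = X c * X c') ∧
      (∀ c ∈ LamU hp p (Fintype.card F) w, X c = 1 → c = 0) ∧
      ∀ Z : Set (Fin l → ZMod p), Z ⊆ LamU hp p (Fintype.card F) w → (∀ s : Fin D.nroots, ∃ c ∈ Z, lam c (vec D l s) ≠ 0) →
        ∀ h : ↥(D.group F), (∀ c ∈ Z, h * X c = X c * h) →
        h ∈ PJ M.toCoxeterSystem hp.isCartan (TT D F) (XX D l F) J := by
  classical
  have hp1 : p.Prime := hpp.out
  have hNz : NeZero p := ⟨hp1.ne_zero⟩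
  obtain ⟨r, e, hr, hrF, hrk, he, hq, hk⟩ := exists_closure (F := F) rfl
  have hpr : p ≠ r := by
    rintro rfl
    exact hpF (CharP.cast_eq_zero F p)
  let k := AlgebraicClosure F
  let f : F →+* k := algebraMap F (AlgebraicClosure F)
  have hσ : IsFrob r e (phi D k r e) := isFrob_phi
  have F0 : Fr M.toCoxeterSystem hp.isCartan (TT D k) (XX D l k) (phi D k r e) (AddEquiv.refl (Fin l → ℤ)) := fr_phi hp _
  -- the root of unity
  have hpk' : (p : k) ≠ 0 := by
    intro h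
    have h1 := (CharP.cast_eq_zero_iff k r p).1 h
    exact hpr.symm ((Nat.prime_dvd_prime_iff_eq hr.out hp1).1 h1)
  have : NeZero ((p : ℕ) : k) := ⟨hpk'⟩
  obtain ⟨ζ, hζ⟩ := HasEnoughRootsOfUnity.exists_primitiveRoot k p
  have hζp : ζ ^ p = 1 := hζ.pow_eq_one
  have hζinj : ∀ x y : ZMod p, ζ ^ x.val = ζ ^ y.val → x = y := fun x y h => pow_val_inj hζ h
  -- the torus elements
  have hex : ∀ c : Fin l → ZMod p, ∃ t ∈ TT D k, ∀ x, cX hp t x = chm ζ c x := fun c =>
    exists_cX hp (k := k) hB hd (isMC_chm hζp c) (fun i => IsAlgClosed.exists_pow_nat_eq _ (Nat.pos_of_ne_zero hd))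
  choose t ht hX using hex
  have ht_add : ∀ c c', t (c + c') = t c * t c' := by
    intro c c'
    refine cX_inj hp (ht _) (mul_mem (ht _) (ht _)) fun i => ?_
    rw [cX_mul hp (ht _) (ht _), hX, hX, hX]
    unfold chm
    rw [lam_add_left, pow_val_add' hζp]
  have ht_pow : ∀ c, t c ^ p = 1 := by
    intro c
    refine cX_inj hp (pow_mem (ht c) _) (one_mem _) fun i => ?_
    rw [cX_pow hp (ht c), cX_one, hX]
    unfold chm
    rw [← pow_mul, mul_comm, pow_mul, hζp, one_pow]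
  have ht_eq : ∀ c c' : Fin l → ZMod p, (∀ x, lam c x = lam c' x) → c = c' := by
    intro c c' h
    funext i
    have := h (sr i)
    rwa [lam_sr, lam_sr] at this
  have hroot : ∀ (c : Fin l → ZMod p) (x : Fin l → ℤ), cX hp (t c) x = 1 ↔ lam c x = 0 := by
    intro c x
    rw [hX]
    unfold chm
    constructor
    · intro h
      exact hζinj _ _ (by rw [h, ZMod.val_zero, pow_zero])
    · intro h
      rw [h, ZMod.val_zero, pow_zero]
  -- the frame automorphism
  have hWf := finite_W hp (M.toCoxeterSystem)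
  have H := tow hp M.toCoxeterSystem hk r
  let hN : NSys M (TT D k) (nc hp k) := nsys_of_locFin hp M.toCoxeterSystem hk r
  obtain ⟨nw, hnw⟩ := exists_rp M.toCoxeterSystem hN w
  obtain ⟨u, huJ, hu'⟩ := H798.OZ.lang_LJ hp M.toCoxeterSystem hk r hcen he hσ F0
    (H798.OZ.rp_mem_LJK hp M.toCoxeterSystem hk r hwJ hnw)
  have Fr1 : Fr M.toCoxeterSystem hp.isCartan (TT D k) (XX D l k) (ct (phi D k r e) u)
      ((AddEquiv.refl (Fin l → ℤ)).trans (repAut M.toCoxeterSystem hp.isCartan w)) := by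
    have hnw' : Rp M.toCoxeterSystem H.nsys w (u⁻¹ * (phi D k r e) u) := by
      rw [← hu']
      exact H798.OZ.rp_congr (TL_eq hp hk).symm hnw
    have h1 := Fr.conj H hnw'
    rw [TL_eq hp hk, XL_eq hp hk] at h1
    exact h1.mul F0
  have hσ1 : IsFrob r e (ct (phi D k r e) u) := hσ.conj_mul _
  -- fixed
  have hfixt : ∀ c ∈ LamU hp p (Fintype.card F) w, ct (phi D k r e) u (t c) = t c := by
    intro c hcw
    refine cX_inj hp ((Fr1.tor (t c)).2 (ht c)) (ht c) fun i => ?_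
    obtain ⟨y, hy⟩ := ((AddEquiv.refl (Fin l → ℤ)).trans (repAut M.toCoxeterSystem hp.isCartan w)).surjective (sr i)
    have hg1 : ((AddEquiv.refl (Fin l → ℤ)).trans (repAut M.toCoxeterSystem hp.isCartan w)) y =
      rep M.toCoxeterSystem hp.isCartan w y := rfl
    have hcw' : lam c (rep M.toCoxeterSystem hp.isCartan w y) = ((Fintype.card F : ℕ) : ZMod p) * lam c y := hcw y
    rw [← hy, cX_sigma hp M.toCoxeterSystem hσ1 Fr1 (ht c), hX, hX, hg1]
    unfold chm
    rw [hcw', hq, pow_val_cast' hζp]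
  -- back in the finite group
  have hback : ∀ c ∈ LamU hp p (Fintype.card F) w, ∃ x : ↥(D.group F), emb hp.inList f x = u * t c * u⁻¹ := by
    intro c hc
    have h1 : phi D k r e (u * t c * u⁻¹) = u * t c * u⁻¹ := ct_fix.1 (hfixt c hc)
    have h2 : (u * t c * u⁻¹) ^ d ∈ (emb hp.inList f).range := fix_pow_range hp M.toCoxeterSystem f hq hB hd h1
    have h3 : (u * t c * u⁻¹) ^ p = 1 := by rw [conj_pow, ht_pow, mul_one, mul_inv_cancel]
    exact mem_of_pow_mem hdp h3 h2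
  have hexX : ∀ c : Fin l → ZMod p, ∃ x : ↥(D.group F), c ∈ LamU hp p (Fintype.card F) w →
      emb hp.inList f x = u * t c * u⁻¹ := by
    intro c
    by_cases hc : c ∈ LamU hp p (Fintype.card F) w
    · obtain ⟨x, hx⟩ := hback c hc
      exact ⟨x, fun _ => hx⟩
    · exact ⟨1, fun h => absurd h hc⟩
  choose X hXf using hexX
  have hinj := emb_injective hp.inList f
  refine ⟨X, ?_, ?_, ?_⟩
  · intro c hc c' hc'
    apply hinj
    rw [map_mul, hXf _ (Lam.add hp hc hc'), hXf _ hc, hXf _ hc', ht_add]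
    group
  · intro c hc h1
    have h2 := hXf _ hc
    rw [h1, map_one] at h2
    have h3 : t c = 1 := by
      have h4 : u * t c * u⁻¹ = 1 := h2.symm
      rwa [conj_eq_one_iff] at h4
    refine ht_eq _ _ fun x => ?_
    have h4 := hroot c x
    rw [h3, cX_one] at h4
    rw [show lam (0 : Fin l → ZMod p) x = 0 by unfold lam; simp]
    exact h4.1 rfl
  · intro Z hZ hr' h hh
    refine H798.OZ.mem_PJ_of_emb hp M.toCoxeterSystem hk (p := r) f ?_
    have h1 : u⁻¹ * emb hp.inList f h * u ∈ TT D k := by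
      refine mem_TT_of_comm hp (r := r) hk hp1 hW (Z := t '' Z) ((Set.toFinite Z).image t) ?_ ?_ ?_ ?_
      · rintro _ ⟨c, _, rfl⟩
        exact ht c
      · rintro _ ⟨c, _, rfl⟩
        exact ⟨1, by rw [pow_one, ht_pow]⟩
      · intro s
        obtain ⟨c, hc, hs⟩ := hr' s
        exact ⟨t c, ⟨c, hc, rfl⟩, fun h0 => hs ((hroot c _).1 h0)⟩
      · rintro _ ⟨c, hc, rfl⟩
        have h2 := congrArg (emb hp.inList f) (hh c hc)
        rw [map_mul, map_mul, hXf _ (hZ hc)] at h2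
        calc u⁻¹ * emb hp.inList f h * u * t c = u⁻¹ * (emb hp.inList f h * (u * t c * u⁻¹)) * u := by group
          _ = u⁻¹ * (u * t c * u⁻¹ * emb hp.inList f h) * u := by rw [h2]
          _ = t c * (u⁻¹ * emb hp.inList f h * u) := by group
    have h2 : u ∈ PJ M.toCoxeterSystem hp.isCartan (TT D k) (XX D l k) J := LJ_le_PJ huJ
    have h3 : u⁻¹ * emb hp.inList f h * u ∈ PJ M.toCoxeterSystem hp.isCartan (TT D k) (XX D l k) J :=
      LJ_le_PJ ((le_sup_left : TT D k ≤ LJ M.toCoxeterSystem hp.isCartan (TT D k) (XX D l k) J) h1)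
    have h4 : emb hp.inList f h = u * (u⁻¹ * emb hp.inList f h * u) * u⁻¹ := by group
    rw [h4]
    exact mul_mem (mul_mem h2 h3) (inv_mem h2)

/-- **A `p`-subgroup with centralizer in `P_J`.** -/
theorem exists_sub_par {F : Type u} [Field F] [Fintype F] {p : ℕ} [hpp : Fact p.Prime] (hpF : (p : F) ≠ 0)
    (hW : ¬ p ∣ Nat.card M.Group) {d : ℕ} {B : Fin l → Fin l → ℤ} (hB : InvC D l d B) (hd : d ≠ 0) (hdp : d.Coprime p)
    (hcen : Subgroup.center ↥(D.group (AlgebraicClosure F)) = ⊥) {J : Set (Fin l)}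
    {w : M.Group} (hwJ : w ∈ WJ M.toCoxeterSystem J)
    (hroot : ∀ s : Fin D.nroots, ∃ c ∈ LamU hp p (Fintype.card F) w, lam c (vec D l s) ≠ 0) :
    ∃ A : Subgroup ↥(D.group F), IsPGroup p A ∧
      Subgroup.centralizer (A : Set ↥(D.group F)) ≤ PJ M.toCoxeterSystem hp.isCartan (TT D F) (XX D l F) J := by
  obtain ⟨X, hadd, hXinj, hcenX⟩ := exists_parC hp hpF hW hB hd hdp hcen hwJ
  have hzero : (0 : Fin l → ZMod p) ∈ LamU hp p (Fintype.card F) w := by
    intro x
    unfold lam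
    simp
  have hX0 : X 0 = 1 := by
    have h := hadd 0 hzero 0 hzero
    rw [add_zero] at h
    exact (mul_eq_left.1 h.symm)
  have hneg : ∀ c ∈ LamU hp p (Fintype.card F) w, -c ∈ LamU hp p (Fintype.card F) w := by
    intro c hc
    have := Lam.smul hp (-1) hc
    rwa [neg_one_smul] at this
  have hXneg : ∀ c ∈ LamU hp p (Fintype.card F) w, X (-c) = (X c)⁻¹ := by
    intro c hc
    have h2 := hadd _ (hneg c hc) _ hc
    rw [neg_add_cancel, hX0] at h2
    exact eq_inv_of_mul_eq_one_left h2.symm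
  have hXn : ∀ c ∈ LamU hp p (Fintype.card F) w, ∀ n : ℕ, X ((n : ZMod p) • c) = X c ^ n := by
    intro c hc n
    induction n with
    | zero => rw [Nat.cast_zero, zero_smul, pow_zero, hX0]
    | succ n ih => rw [Nat.cast_succ, add_smul, one_smul, hadd _ (Lam.smul hp _ hc) _ hc, ih, pow_succ]
  refine ⟨{ carrier := {x | ∃ c ∈ LamU hp p (Fintype.card F) w, X c = x}
            one_mem' := ⟨0, hzero, hX0⟩
            mul_mem' := by
              rintro _ _ ⟨c, hc, rfl⟩ ⟨c', hc', rfl⟩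
              exact ⟨c + c', Lam.add hp hc hc', hadd c hc c' hc'⟩
            inv_mem' := by
              rintro _ ⟨c, hc, rfl⟩
              exact ⟨-c, hneg c hc, hXneg c hc⟩ }, ?_, ?_⟩
  · rintro ⟨x, c, hc, rfl⟩
    refine ⟨1, Subtype.ext ?_⟩
    show X c ^ p ^ 1 = 1
    rw [pow_one, ← hXn c hc, ZMod.natCast_self, zero_smul, hX0]
  · intro h hh
    rw [Subgroup.mem_centralizer_iff] at hh
    refine hcenX _ subset_rfl hroot h fun c hc => ?_
    exact (hh _ ⟨c, hc, rfl⟩).symm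

end Cfsg.Agent.H214.XR
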