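import Cfsg.Agent.H603.AP.Height
import Cfsg.Agent.H694.XZ.Form

/-!
# S4791 + S4927: the height theorem for homocyclic Sylow subgroups of rank two (helper214)

`P` an abelian Sylow `p`-subgroup, homocyclic (`∃ n`, exponent dividing `p ^ (n + 1)`, all elements of order dividing `p` are
`p ^ n`-th powers) with at most `p ^ 2` elements of order dividing `p`. If `P` has a regular element of order dividing `p` then
`x0 = kJ`.

Proof: for `n = 0` the order of `P` is `p ^ 2` or `P` is cyclic of order `p`. For `n > 0` let `R` be the set of the regular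
elements of `Ω = {x ∈ P | x ^ p = 1}`. Then `|N : C| ≤ |R|` and `|P_reg| ≥ |R| |P : Ω| + 1`, so `|N : C| |P| < p ^ 2 |P_reg|`.
-/

set_option autoImplicit false

namespace Cfsg.Agent.H214.XR

open Cfsg
open Cfsg.Agent.H674.XZ Cfsg.Agent.H508.XR Cfsg.Agent.H603.AP

universe u

variable {p : ℕ} [hp : Fact p.Prime] {M : Ideal AlgInt} {G : Type u} [Group G] [Finite G]

/-- a conjugate of a regular element under the normalizer is regular -/
theorem reg_conj {P : Sylow p G} {y g : G} (hy : Reg P y) (hg : g ∈ Subgroup.normalizer ((P : Subgroup G) : Set G)) :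
    Reg P (g * y * g⁻¹) := by
  refine ⟨(Subgroup.mem_normalizer_iff.1 hg y).1 hy.1, fun c hc hc1 => ?_⟩
  have hCN : (Subgroup.centralizer ((P : Subgroup G) : Set G)) = (Subgroup.centralizer ((P : Subgroup G) : Set G)) := rfl
  have h1 : g⁻¹ * c * g ∈ Subgroup.centralizer ((P : Subgroup G) : Set G) := by
    refine hy.2 _ (Subgroup.mul_mem _ (Subgroup.mul_mem _ (Subgroup.inv_mem _ hg) hc) hg) ?_
    have h2 : g⁻¹ * (c * (g * y * g⁻¹)) * g = g⁻¹ * ((g * y * g⁻¹) * c) * g := by rw [hc1]
    have h3 : g⁻¹ * (c * (g * y * g⁻¹)) * g = g⁻¹ * c * g * y := by group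
    have h4 : g⁻¹ * ((g * y * g⁻¹) * c) * g = y * (g⁻¹ * c * g) := by group
    rw [← h3, ← h4, h2]
  rw [Subgroup.mem_centralizer_iff] at h1 ⊢
  intro x hx
  have h2 : g⁻¹ * x * g ∈ (P : Subgroup G) := by
    have h5 := (Subgroup.mem_normalizer_iff.1 (Subgroup.inv_mem _ hg) x).1 hx
    rwa [inv_inv] at h5
  have h3 := h1 _ h2
  have h4 : g * (g⁻¹ * x * g * (g⁻¹ * c * g)) * g⁻¹ = g * (g⁻¹ * c * g * (g⁻¹ * x * g)) * g⁻¹ := by rw [h3]
  have h5 : g * (g⁻¹ * x * g * (g⁻¹ * c * g)) * g⁻¹ = x * c := by group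
  have h6 : g * (g⁻¹ * c * g * (g⁻¹ * x * g)) * g⁻¹ = c * x := by group
  rw [← h5, ← h6, h4]

/-- a root of a regular element is regular -/
theorem reg_of_pow {P : Sylow p G} {x : G} (hx : x ∈ (P : Subgroup G)) {k : ℕ} (h : Reg P (x ^ k)) : Reg P x :=
  ⟨hx, fun g hg h1 => h.2 g hg (Commute.pow_right (show Commute g x from h1) k)⟩

/-- **The number of the regular elements.** -/
theorem card_le_reg (P : Sylow p G) {y : G} (hy : Reg P y) (hy1 : y ^ p = 1) :
    Nat.card (Subgroup.normalizer ((P : Subgroup G) : Set G)) ≤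
      Nat.card {x : G // Reg P x ∧ x ^ p = 1} * Nat.card (Subgroup.centralizer ((P : Subgroup G) : Set G)) := by
  classical
  set N := Subgroup.normalizer ((P : Subgroup G) : Set G) with hN
  set C := Subgroup.centralizer ((P : Subgroup G) : Set G) with hC
  let f : N → {x : G // Reg P x ∧ x ^ p = 1} := fun g => ⟨(g : G) * y * (g : G)⁻¹, reg_conj hy g.2, by
    rw [conj_pow, hy1, mul_one, mul_inv_cancel]⟩
  have hf : ∀ g h : N, f g = f h → (g : G)⁻¹ * h ∈ C := by
    intro g h hgh
    have h1 : (g : G) * y * (g : G)⁻¹ = (h : G) * y * (h : G)⁻¹ := congrArg Subtype.val hgh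
    refine hy.2 _ (Subgroup.mul_mem _ (Subgroup.inv_mem _ g.2) h.2) ?_
    have h2 : (g : G)⁻¹ * ((g : G) * y * (g : G)⁻¹) * h = (g : G)⁻¹ * ((h : G) * y * (h : G)⁻¹) * h := by rw [h1]
    have h3 : (g : G)⁻¹ * ((g : G) * y * (g : G)⁻¹) * h = y * ((g : G)⁻¹ * h) := by group
    have h4 : (g : G)⁻¹ * ((h : G) * y * (h : G)⁻¹) * h = (g : G)⁻¹ * h * y := by group
    rw [← h3, ← h4, h2]
  let s : {x : G // Reg P x ∧ x ^ p = 1} → N := fun r => if h : ∃ g : N, f g = r then h.choose else 1
  have hs : ∀ g : N, f (s (f g)) = f g := by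
    intro g
    have h : ∃ g' : N, f g' = f g := ⟨g, rfl⟩
    have h1 : s (f g) = h.choose := dif_pos h
    rw [h1]
    exact h.choose_spec
  have hinj : Function.Injective fun g : N => ((f g, ⟨(s (f g) : G)⁻¹ * g, hf _ _ (hs g)⟩) :
      {x : G // Reg P x ∧ x ^ p = 1} × C) := by
    intro g h hgh
    have h1 : f g = f h := congrArg Prod.fst hgh
    have h2 : (s (f g) : G)⁻¹ * g = (s (f h) : G)⁻¹ * h := congrArg Subtype.val (Prod.mk.inj hgh).2
    rw [h1] at h2
    exact Subtype.ext (mul_left_cancel h2)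
  have h1 := Nat.card_le_card_of_injective _ hinj
  rwa [Nat.card_prod] at h1

/-- **The height theorem for homocyclic Sylow subgroups of rank two.** -/
theorem x0_eq_kJ_of_rank_two (hM : IsPModular p M) (P : Sylow p G)
    (hab : ∀ x ∈ (P : Subgroup G), ∀ y ∈ (P : Subgroup G), x * y = y * x) (n : ℕ)
    (hn : ∀ x ∈ (P : Subgroup G), x ^ p ^ (n + 1) = 1)
    (hr : ∀ x ∈ (P : Subgroup G), x ^ p = 1 → ∃ y ∈ (P : Subgroup G), y ^ p ^ n = x)
    (h2 : Nat.card {x : G // x ∈ (P : Subgroup G) ∧ x ^ p = 1} = p ^ 2)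
    {y : G} (hy : Reg P y) (hy1 : y ^ p = 1) : x0 p M G = kJ p M G := by
  classical
  rcases Nat.eq_zero_or_pos n with rfl | hn0
  · refine x0_eq_kJ_of_sq hM P ?_
    rw [← h2]
    refine Nat.card_congr (Equiv.subtypeEquivRight fun x => ⟨fun hx => ⟨hx, ?_⟩, fun hx => hx.1⟩)
    have := hn x hx
    rwa [zero_add, pow_one] at this
  · refine x0_eq_kJ_of_reg hM P hab ?_
    change _ < p ^ 2 * _ * Nat.card {x : G // Reg P x}
    have hCpos : 0 < Nat.card (Subgroup.centralizer ((P : Subgroup G) : Set G)) := Nat.card_pos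
    by_cases h1R : Reg P (1 : G)
    · -- `N = C`
      have hNC : Nat.card (Subgroup.normalizer ((P : Subgroup G) : Set G)) ≤
          Nat.card (Subgroup.centralizer ((P : Subgroup G) : Set G)) := by
        refine Nat.card_le_card_of_injective (fun g => ⟨g.1, h1R.2 g.1 g.2 (by rw [mul_one, one_mul])⟩) ?_
        intro g h hgh
        exact Subtype.ext (Subtype.mk.inj hgh)
      have hPR : Nat.card P ≤ Nat.card {x : G // Reg P x} := by
        refine Nat.card_le_card_of_injective (fun x => ⟨x.1, x.2, fun g hg _ => h1R.2 g hg (by rw [mul_one, one_mul])⟩) ?_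
        intro g h hgh
        exact Subtype.ext (Subtype.mk.inj hgh)
      have hPpos : 0 < Nat.card P := Nat.card_pos
      have hp2 : 1 < p ^ 2 := Nat.one_lt_pow two_ne_zero hp.out.one_lt
      calc _ ≤ Nat.card (Subgroup.centralizer ((P : Subgroup G) : Set G)) * Nat.card {x : G // Reg P x} :=
            Nat.mul_le_mul hNC hPR
        _ < p ^ 2 * (Nat.card (Subgroup.centralizer ((P : Subgroup G) : Set G)) * Nat.card {x : G // Reg P x}) := by
            refine lt_mul_of_one_lt_left (Nat.mul_pos hCpos (hPpos.trans_le hPR)) hp2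
        _ = _ := by ring
    · -- the `p ^ n`-th power map
      have hcomm : ∀ a b : P, a * b = b * a := fun a b => Subtype.ext (hab a a.2 b b.2)
      let f : P →* P := MonoidHom.mk' (fun x => x ^ p ^ n) fun a b => (show Commute a b from hcomm a b).mul_pow _
      have hfv : ∀ x : P, ((f x : P) : G) = (x : G) ^ p ^ n := fun x => rfl
      have hcard : Nat.card P ≤ Nat.card f.ker * p ^ 2 := by
        have h3 : Nat.card f.range ≤ p ^ 2 := by
          rw [← h2]
          refine Nat.card_le_card_of_injective (fun t : f.range => (⟨((t : P) : G), (t : P).2, ?_⟩ :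
            {x : G // x ∈ (P : Subgroup G) ∧ x ^ p = 1})) ?_
          · obtain ⟨x, hx⟩ := t.2
            rw [← hx, hfv, ← pow_mul, ← pow_succ]
            exact hn x x.2
          · intro a b hab'
            exact Subtype.ext (Subtype.ext (Subtype.mk.inj hab'))
        have h4 : Nat.card P = Nat.card f.ker * Nat.card f.range := by
          rw [← Subgroup.index_ker f, Subgroup.card_mul_index]
        rw [h4]
        exact Nat.mul_le_mul_left _ h3
      have key : Nat.card {x : G // Reg P x ∧ x ^ p = 1} * Nat.card f.ker + 1 ≤ Nat.card {x : G // Reg P x} := by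
        obtain ⟨w, hw, hwy⟩ := hr y hy.1 hy1
        choose s hs1 hs2 using fun r : {x : G // Reg P x ∧ x ^ p = 1} => hr r.1 r.2.1.1 r.2.2
        have hreg : ∀ t : {x : G // Reg P x ∧ x ^ p = 1} × f.ker, (s t.1 * ((t.2 : P) : G)) ^ p ^ n = t.1 := by
          intro t
          have h3 : Commute (s t.1) ((t.2 : P) : G) := hab _ (hs1 t.1) _ (t.2 : P).2
          have h4 : (((t.2 : P) : G)) ^ p ^ n = 1 := by
            have := (MonoidHom.mem_ker).1 t.2.2
            rw [← hfv, this]
            rfl
          rw [h3.mul_pow, hs2, h4, mul_one]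
        have hz : Reg P (w ^ p) := by
          refine reg_of_pow (Subgroup.pow_mem _ hw _) (k := p ^ (n - 1)) ?_
          rw [← pow_mul, ← pow_succ', Nat.sub_add_cancel hn0, hwy]
          exact hy
        let e : Option ({x : G // Reg P x ∧ x ^ p = 1} × f.ker) → {x : G // Reg P x} := fun o =>
          match o with
          | none => ⟨w ^ p, hz⟩
          | some t => ⟨s t.1 * ((t.2 : P) : G), reg_of_pow (Subgroup.mul_mem _ (hs1 t.1) (t.2 : P).2) (k := p ^ n)
              (by rw [hreg t]; exact t.1.2.1)⟩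
        have hne : ∀ t : {x : G // Reg P x ∧ x ^ p = 1} × f.ker, w ^ p ≠ s t.1 * ((t.2 : P) : G) := by
          intro t ht
          have h3 := hreg t
          rw [← ht, ← pow_mul, ← pow_succ', hn w hw] at h3
          exact h1R (h3 ▸ t.1.2.1)
        have hinj : Function.Injective e := by
          rintro (_ | a) (_ | b) hab'
          · rfl
          · exact absurd (congrArg Subtype.val hab') (hne b)
          · exact absurd (congrArg Subtype.val hab').symm (hne a)
          · have h3 : s a.1 * ((a.2 : P) : G) = s b.1 * ((b.2 : P) : G) := congrArg Subtype.val hab'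
            have h4 : a.1 = b.1 := by
              apply Subtype.ext
              rw [← hreg a, ← hreg b, h3]
            rw [h4] at h3
            have h5 : a.2 = b.2 := Subtype.ext (Subtype.ext (mul_left_cancel h3))
            exact congrArg some (Prod.ext h4 h5)
        have h3 := Nat.card_le_card_of_injective e hinj
        have := Fintype.ofFinite ({x : G // Reg P x ∧ x ^ p = 1} × f.ker)
        rw [Nat.card_eq_fintype_card (α := Option _), Fintype.card_option, ← Nat.card_eq_fintype_card, Nat.card_prod] at h3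
        exact h3
      have hN := card_le_reg P hy hy1
      have hp2 : 0 < p ^ 2 := pow_pos hp.out.pos 2
      calc _ ≤ Nat.card {x : G // Reg P x ∧ x ^ p = 1} * Nat.card (Subgroup.centralizer ((P : Subgroup G) : Set G)) *
            (Nat.card f.ker * p ^ 2) := Nat.mul_le_mul hN hcard
        _ = p ^ 2 * Nat.card (Subgroup.centralizer ((P : Subgroup G) : Set G)) *
            (Nat.card {x : G // Reg P x ∧ x ^ p = 1} * Nat.card f.ker) := by ring
        _ < p ^ 2 * Nat.card (Subgroup.centralizer ((P : Subgroup G) : Set G)) * Nat.card {x : G // Reg P x} :=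
            Nat.mul_lt_mul_of_pos_left (by omega) (Nat.mul_pos hp2 hCpos)

/-- the index of the centralizer of `P` in the normalizer is prime to `p` -/
theorem exists_pow_mem (P : Sylow p G) (hab : ∀ x ∈ (P : Subgroup G), ∀ y ∈ (P : Subgroup G), x * y = y * x) {g : G}
    (hg : g ∈ Subgroup.normalizer ((P : Subgroup G) : Set G)) :
    ∃ m : ℕ, m.Coprime p ∧ g ^ m ∈ Subgroup.centralizer ((P : Subgroup G) : Set G) := by
  -- `g ^ (p ^ k)` has order prime to `p` for the `p`-part `p ^ k` of the order of `g`; the `p`-part of `g` is in `P`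
  refine ⟨orderOf g / p ^ (orderOf g).factorization p,
    (Nat.coprime_comm.1 ((Nat.Prime.coprime_iff_not_dvd hp.out).2 (Nat.not_dvd_ordCompl hp.out (orderOf_pos g).ne'))), ?_⟩
  set m := orderOf g / p ^ (orderOf g).factorization p with hm
  have h1 : (g ^ m) ^ p ^ (orderOf g).factorization p = 1 := by
    rw [← pow_mul, hm, Nat.div_mul_cancel (Nat.ordProj_dvd _ _), pow_orderOf_eq_one]
  have h2 : g ^ m ∈ Subgroup.normalizer ((P : Subgroup G) : Set G) := Subgroup.pow_mem _ hg _
  -- a `p`-element of the normalizer of `P` is in `P`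
  have h3 : IsPGroup p (Subgroup.zpowers (g ^ m)) := by
    rw [IsPGroup.iff_card]
    have h4 : orderOf (g ^ m) ∣ p ^ (orderOf g).factorization p := orderOf_dvd_of_pow_eq_one h1
    obtain ⟨k, -, hk⟩ := (Nat.dvd_prime_pow hp.out).1 h4
    exact ⟨k, by rw [Nat.card_zpowers, hk]⟩
  have h4 : Subgroup.zpowers (g ^ m) ≤ Subgroup.normalizer ((P : Subgroup G) : Set G) := by
    rw [Subgroup.zpowers_le]
    exact h2
  have h5 : IsPGroup p ((Subgroup.zpowers (g ^ m) ⊔ (P : Subgroup G) : Subgroup G)) :=
    h3.to_sup_of_normal_right' P.2 h4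
  have h6 : (P : Subgroup G) = Subgroup.zpowers (g ^ m) ⊔ (P : Subgroup G) := (P.3 h5 le_sup_right).symm
  have h7 : g ^ m ∈ (P : Subgroup G) := by
    rw [h6]
    exact Subgroup.mem_sup_left (Subgroup.mem_zpowers _)
  rw [Subgroup.mem_centralizer_iff]
  exact fun x hx => hab x hx _ h7

/-- an element of the normalizer which centralizes the elements of order `p` centralizes `P` -/
theorem mem_centralizer_of_omega (P : Sylow p G) (hab : ∀ x ∈ (P : Subgroup G), ∀ y ∈ (P : Subgroup G), x * y = y * x) {g : G}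
    (hg : g ∈ Subgroup.normalizer ((P : Subgroup G) : Set G)) (h : ∀ x ∈ (P : Subgroup G), x ^ p = 1 → g * x = x * g) :
    g ∈ Subgroup.centralizer ((P : Subgroup G) : Set G) := by
  obtain ⟨m, hm, hgm⟩ := exists_pow_mem P hab hg
  have key : ∀ k : ℕ, ∀ x ∈ (P : Subgroup G), x ^ p ^ k = 1 → g * x = x * g := by
    intro k
    induction k with
    | zero =>
      intro x _ hx1
      rw [pow_zero, pow_one] at hx1
      rw [hx1, mul_one, one_mul]
    | succ k ih =>
      intro x hx hx1
      have h1 : g * x ^ p = x ^ p * g := ih _ (Subgroup.pow_mem _ hx p) (by rw [← pow_mul, ← pow_succ', hx1])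
      have hgx : g * x * g⁻¹ ∈ (P : Subgroup G) := (Subgroup.mem_normalizer_iff.1 hg x).1 hx
      set c := g * x * g⁻¹ * x⁻¹ with hc
      have hcP : c ∈ (P : Subgroup G) := Subgroup.mul_mem _ hgx (Subgroup.inv_mem _ hx)
      have hcp : c ^ p = 1 := by
        have h2 : Commute (g * x * g⁻¹) x⁻¹ := hab _ hgx _ (Subgroup.inv_mem _ hx)
        rw [hc, h2.mul_pow, conj_pow, h1, inv_pow, mul_inv_cancel_right, mul_inv_cancel]
      have hgc : Commute g c := h c hcP hcp
      have hcx : Commute c x := hab _ hcP _ hx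
      have h2 : ∀ j : ℕ, g ^ j * x = c ^ j * x * g ^ j := by
        intro j
        induction j with
        | zero => simp
        | succ j ihj =>
          have h3 : g * x = c * x * g := by rw [hc]; group
          calc g ^ (j + 1) * x = g * (g ^ j * x) := by rw [pow_succ', mul_assoc]
            _ = g * (c ^ j * x * g ^ j) := by rw [ihj]
            _ = (g * c ^ j) * x * g ^ j := by group
            _ = (c ^ j * g) * x * g ^ j := by rw [(hgc.pow_right j).eq]
            _ = c ^ j * (g * x) * g ^ j := by group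
            _ = c ^ j * (c * x * g) * g ^ j := by rw [h3]
            _ = c ^ (j + 1) * x * g ^ (j + 1) := by rw [pow_succ, pow_succ']; group
      have h3 : c ^ m = 1 := by
        have h4 := h2 m
        rw [← (Subgroup.mem_centralizer_iff.1 hgm) x hx, mul_assoc] at h4
        have h5 : x * g ^ m = c ^ m * (x * g ^ m) := h4
        exact (mul_eq_right.1 h5.symm)
      have h4 : c = 1 := by
        have h5 : orderOf c ∣ Nat.gcd m p := Nat.dvd_gcd (orderOf_dvd_of_pow_eq_one h3) (orderOf_dvd_of_pow_eq_one hcp)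
        rw [Nat.Coprime.gcd_eq_one hm, Nat.dvd_one] at h5
        exact orderOf_eq_one_iff.1 h5
      have h5 : g * x = c * x * g := by rw [hc]; group
      rw [h5, h4, one_mul]
  rw [Subgroup.mem_centralizer_iff]
  intro x hx
  obtain ⟨k, hk⟩ := P.2 ⟨x, hx⟩
  have hk' : x ^ p ^ k = 1 := congrArg Subtype.val hk
  exact (key k x hx hk').symm

/-- an element whose centralizer centralizes the elements of order `p` of `P` is regular -/
theorem reg_of_omega (P : Sylow p G) (hab : ∀ x ∈ (P : Subgroup G), ∀ y ∈ (P : Subgroup G), x * y = y * x) {y : G}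
    (hy : y ∈ (P : Subgroup G)) (h : ∀ g ∈ Subgroup.normalizer ((P : Subgroup G) : Set G), g * y = y * g →
      ∀ x ∈ (P : Subgroup G), x ^ p = 1 → g * x = x * g) : Reg P y :=
  ⟨hy, fun g hg hgy => mem_centralizer_of_omega P hab hg (h g hg hgy)⟩

open Cfsg.Agent.H795 in
/-- **The height theorem for groups with `AbIrr` and Sylow subgroups of rank two**: it is enough to have an element `y` of order
`p` whose centralizer in the normalizer of `P` centralizes the elements of order `p` of `P`. -/
theorem x0_eq_kJ_of_abIrr (hM : IsPModular p M) (hA : AbIrr p G) (hd : p ∣ Nat.card G) (P : Sylow p G)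
    (hab : ∀ x ∈ (P : Subgroup G), ∀ y ∈ (P : Subgroup G), x * y = y * x)
    (h2 : Nat.card {x : G // x ∈ (P : Subgroup G) ∧ x ^ p = 1} = p ^ 2)
    {y : G} (hy : y ∈ (P : Subgroup G)) (hy1 : y ^ p = 1)
    (h : ∀ g ∈ Subgroup.normalizer ((P : Subgroup G) : Set G), g * y = y * g →
      ∀ x ∈ (P : Subgroup G), x ^ p = 1 → g * x = x * g) : x0 p M G = kJ p M G := by
  obtain ⟨n, hn1, hn2⟩ := H694.XZ.roots_of_abIrr hA hd P hab
  refine x0_eq_kJ_of_rank_two hM P hab n (fun x hx => congrArg Subtype.val (hn1 ⟨x, hx⟩)) (fun x hx hxp => ?_) h2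
    (reg_of_omega P hab hy h) hy1
  obtain ⟨z, hz⟩ := hn2 ⟨x, hx⟩ (Subtype.ext hxp)
  exact ⟨z, z.2, congrArg Subtype.val hz⟩

end Cfsg.Agent.H214.XR
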