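import Cfsg.Agent.H214.XR.RankTwo
import Cfsg.Agent.H208.XR.Frame
import Cfsg.Agent.H567.KB.Mod
import Cfsg.Agent.S2378

/-!
# S4791 + S4927: the height theorem for the untwisted exceptional groups of rank two (helper214)

* `x0_eq_kJ_of_iso` : `P ≃ (Z / p ^ v) ^ 2` and `y ∈ P` of order `p` whose centralizer in the normalizer of `P` centralizes the
  elements of order `p` of `P`: then `x0 = kJ`.
* `exists_modelC` : the torus model in `D.group F` with the comparison of the centralizers (`cen`).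
* `x0_eq_kJ_untw` : the untwisted groups with exactly two degrees divisible by `ord_p(q)`: it is enough to have `c₀`, `c₁`, `c₂`
  in the eigenspace, `c₁`, `c₂` linearly independent, such that the roots vanishing on `c₀` vanish on `c₁` and `c₂`.
-/

set_option autoImplicit false
set_option linter.unusedSectionVars false

namespace Cfsg.Agent.H214.XR

open CoxeterSystem Cfsg Cfsg.Lie Cfsg.Lie.ChevalleyDatum
open Cfsg.Agent.H674.XZ Cfsg.Agent.H508.XR Cfsg.Agent.H603.AP

universe u v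

/-! ### the homocyclic group of rank two -/

section cyc

variable {p : ℕ} [hp : Fact p.Prime] {n : ℕ}

theorem zmod_root {a : ZMod (p ^ (n + 1))} (ha : p • a = 0) : ∃ b : ZMod (p ^ (n + 1)), p ^ n • b = a := by
  have hN : NeZero (p ^ (n + 1)) := ⟨pow_ne_zero _ hp.out.ne_zero⟩
  have h1 : p ^ n ∣ a.val := by
    rw [nsmul_eq_mul, ← ZMod.natCast_zmod_val a, ← Nat.cast_mul, ZMod.natCast_eq_zero_iff] at ha
    have h2 : p * p ^ n ∣ p * a.val := (pow_succ' p n) ▸ ha
    exact Nat.dvd_of_mul_dvd_mul_left hp.out.pos h2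
  obtain ⟨b, hb⟩ := h1
  refine ⟨(b : ZMod (p ^ (n + 1))), ?_⟩
  rw [nsmul_eq_mul, ← Nat.cast_mul, ← hb, ZMod.natCast_zmod_val]

theorem card_tors : Nat.card {a : Multiplicative (ZMod (p ^ (n + 1))) // a ^ p = 1} = p := by
  classical
  have hN : NeZero (p ^ (n + 1)) := ⟨pow_ne_zero _ hp.out.ne_zero⟩
  apply le_antisymm
  · have h1 := IsCyclic.card_pow_eq_one_le (α := Multiplicative (ZMod (p ^ (n + 1)))) (n := p) hp.out.pos
    rw [Nat.card_eq_fintype_card, Fintype.card_subtype]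
    exact h1
  · have h1 : Function.Injective fun i : Fin p => (⟨Multiplicative.ofAdd (((p ^ n * i : ℕ)) : ZMod (p ^ (n + 1))), by
        rw [← ofAdd_nsmul, nsmul_eq_mul, ← Nat.cast_mul, show p * (p ^ n * (i : ℕ)) = p ^ (n + 1) * i by ring,
          (ZMod.natCast_eq_zero_iff _ _).2 (Dvd.intro _ rfl), ofAdd_zero]⟩ :
          {a : Multiplicative (ZMod (p ^ (n + 1))) // a ^ p = 1}) := by
      intro i j hij
      have h2 : ((p ^ n * i : ℕ) : ZMod (p ^ (n + 1))) = ((p ^ n * j : ℕ) : ZMod (p ^ (n + 1))) :=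
        Multiplicative.ofAdd.injective (Subtype.mk.inj hij)
      rw [ZMod.natCast_eq_natCast_iff, Nat.ModEq, Nat.mod_eq_of_lt, Nat.mod_eq_of_lt] at h2
      · exact Fin.ext (Nat.eq_of_mul_eq_mul_left (pow_pos hp.out.pos n) h2)
      · rw [pow_succ]
        exact Nat.mul_lt_mul_of_pos_left j.2 (pow_pos hp.out.pos n)
      · rw [pow_succ]
        exact Nat.mul_lt_mul_of_pos_left i.2 (pow_pos hp.out.pos n)
    have h2 := Nat.card_le_card_of_injective _ h1
    rwa [Nat.card_fin] at h2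

theorem card_tors_two : Nat.card {a : Fin 2 → Multiplicative (ZMod (p ^ (n + 1))) // a ^ p = 1} = p ^ 2 := by
  have h1 : Nat.card {a : Fin 2 → Multiplicative (ZMod (p ^ (n + 1))) // a ^ p = 1} =
      Nat.card (Fin 2 → {a : Multiplicative (ZMod (p ^ (n + 1))) // a ^ p = 1}) := by
    refine Nat.card_congr ((Equiv.subtypeEquivRight fun a => ?_).trans
      (Equiv.subtypePiEquivPi (p := fun _ (a : Multiplicative (ZMod (p ^ (n + 1)))) => a ^ p = 1)))
    rw [funext_iff]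
    rfl
  rw [h1, Nat.card_fun, card_tors, Nat.card_fin]

end cyc

/-- **The height theorem for `P ≃ (Z / p ^ v) ^ 2`.** -/
theorem x0_eq_kJ_of_iso {p : ℕ} [hp : Fact p.Prime] {M : Ideal AlgInt} {G : Type u} [Group G] [Finite G]
    (hM : IsPModular p M) (P : Sylow p G) {v : ℕ} (e : Nonempty (P ≃* (Fin 2 → Multiplicative (ZMod (p ^ v)))))
    {y : G} (hy : y ∈ (P : Subgroup G)) (hy1 : y ^ p = 1) (hy2 : y ≠ 1)
    (h : ∀ g ∈ Subgroup.normalizer ((P : Subgroup G) : Set G), g * y = y * g →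
      ∀ x ∈ (P : Subgroup G), x ^ p = 1 → g * x = x * g) :
    Nat.card {x : G // x ∈ (P : Subgroup G) ∧ x ^ p = 1} = p ^ 2 ∧ x0 p M G = kJ p M G := by
  obtain ⟨e⟩ := e
  obtain ⟨n, rfl⟩ : ∃ n, v = n + 1 := by
    refine Nat.exists_eq_succ_of_ne_zero ?_
    rintro rfl
    apply hy2
    have h1 : (⟨y, hy⟩ : P) = 1 := e.injective (by
      funext i
      have : Subsingleton (Multiplicative (ZMod (p ^ 0))) := by
        rw [pow_zero]
        infer_instance
      exact Subsingleton.elim _ _)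
    exact congrArg Subtype.val h1
  have hab : ∀ x ∈ (P : Subgroup G), ∀ y ∈ (P : Subgroup G), x * y = y * x := by
    intro x hx y hy
    have h1 : (⟨x, hx⟩ : P) * ⟨y, hy⟩ = ⟨y, hy⟩ * ⟨x, hx⟩ := e.injective (by rw [map_mul, map_mul, mul_comm])
    exact congrArg Subtype.val h1
  have h2 : Nat.card {x : G // x ∈ (P : Subgroup G) ∧ x ^ p = 1} = p ^ 2 := by
    rw [← card_tors_two (p := p) (n := n)]
    refine Nat.card_congr (Equiv.ofBijective (fun x => ⟨e ⟨x.1, x.2.1⟩, ?_⟩) ⟨?_, ?_⟩)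
    · rw [← map_pow]
      have h3 : (⟨x.1, x.2.1⟩ : P) ^ p = 1 := Subtype.ext x.2.2
      rw [h3, map_one]
    · intro a b hab'
      have h3 := e.injective (Subtype.mk.inj hab')
      exact Subtype.ext (Subtype.mk.inj h3)
    · rintro ⟨b, hb⟩
      refine ⟨⟨(e.symm b : P), (e.symm b).2, ?_⟩, Subtype.ext ?_⟩
      · have h3 : (e.symm b) ^ p = 1 := by rw [← map_pow, hb, map_one]
        exact congrArg Subtype.val h3
      · exact e.apply_symm_apply b
  refine ⟨h2, x0_eq_kJ_of_rank_two hM P hab n (fun x hx => ?_) (fun x hx hxp => ?_) h2 (reg_of_omega P hab hy h) hy1⟩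
  · have h3 : (⟨x, hx⟩ : P) ^ p ^ (n + 1) = 1 := e.injective (by
      rw [map_pow, map_one]
      funext i
      apply Multiplicative.toAdd.injective
      show p ^ (n + 1) • Multiplicative.toAdd (e ⟨x, hx⟩ i) = 0
      rw [nsmul_eq_mul, ZMod.natCast_self, zero_mul])
    exact congrArg Subtype.val h3
  · have h3 : e ⟨x, hx⟩ ^ p = 1 := by
      rw [← map_pow]
      have h3 : (⟨x, hx⟩ : P) ^ p = 1 := Subtype.ext hxp
      rw [h3, map_one]
    have h4 : ∀ i, ∃ b : Multiplicative (ZMod (p ^ (n + 1))), b ^ p ^ n = e ⟨x, hx⟩ i := by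
      intro i
      obtain ⟨b, hb⟩ := zmod_root (p := p) (n := n) (a := Multiplicative.toAdd (e ⟨x, hx⟩ i)) (by
        have h5 := congrArg Multiplicative.toAdd (congrFun h3 i)
        exact h5)
      exact ⟨Multiplicative.ofAdd b, Multiplicative.toAdd.injective hb⟩
    choose b hb using h4
    refine ⟨(e.symm b : P), (e.symm b).2, ?_⟩
    have h5 : (e.symm b) ^ p ^ n = ⟨x, hx⟩ := e.injective (by
      rw [map_pow, e.apply_symm_apply]
      funext i
      exact hb i)
    exact congrArg Subtype.val h5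

/-! ### the model -/

section model

open Cfsg.Agent.ChevalleyStructure Cfsg.Agent.ChevalleyStructure.Elts Cfsg.Agent.ChevalleyStructure.CoxeterGeom
  Cfsg.Agent.ChevalleyStructure.CoxeterGeomTypes Cfsg.Agent.ChevalleyStructure.NPerm
open Cfsg.Agent.Tits.Roots Cfsg.Agent.Tits.Core Cfsg.Agent.Nodes Cfsg.Agent.Nodes.Reps Cfsg.Agent.Nodes.BNOf
  Cfsg.Agent.Nodes.RGDChev Cfsg.Agent.Nodes.Bruhat
open Cfsg.Agent.KFacts.RgdField Cfsg.Agent.KFacts.RgdChevCoord Cfsg.Agent.BpExc.TorCent Cfsg.Agent.BpExc.TorChev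
open Cfsg.Agent.GpExc.Field Cfsg.Agent.BpExc.Tow Cfsg.Agent.BpExc.TowChev Cfsg.Agent.BpExc.Fr
  Cfsg.Agent.BpExc.LangFr Cfsg.Agent.H795.SetCent Cfsg.Agent.H795.Toral Cfsg.Agent.H795.Core
  Cfsg.Agent.H795.RootConn Cfsg.Agent.H795.SetTor Cfsg.Agent.H129.TorusChar Cfsg.Agent.H129.TorusUntw
  Cfsg.Agent.H129.WData Cfsg.Agent.H795.Reduce Cfsg.Agent.H795.LangT Cfsg.Agent.H123.ExcZ
  Cfsg.Agent.BpExc Cfsg.Agent.H210.EL Cfsg.Agent.H440.TD4 Cfsg.Agent.H795.Untw
open Cfsg.Agent.H208.XR (ModelN exists_modelN)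
open Cfsg.Agent.H567.KB (LamU)

variable {D : ChevalleyDatum} {l : ℕ} {M : CoxeterMatrix (Fin l)}

/-- The model with the comparison of centralizers. -/
structure ModelC (hp : IsType D l M) (p Q : ℕ) (w : M.Group) {S : Type v} [Group S]
    (X : (Fin l → ZMod p) → S) : Prop where
  add : ∀ c ∈ LamU hp p Q w, ∀ c' ∈ LamU hp p Q w, X (c + c') = X c * X c'
  inj : ∀ c ∈ LamU hp p Q w, X c = 1 → c = 0
  cen : ∀ c ∈ LamU hp p Q w, ∀ c' ∈ LamU hp p Q w,
    (∀ s : Fin D.nroots, lam c' (vec D l s) = 0 → lam c (vec D l s) = 0) →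
    ∀ h : S, h * X c' = X c' * h → h * X c = X c * h

/-- **The model in `D.group F`.** -/
theorem exists_modelC (hp : IsType D l M) {F : Type u} [Field F] [Fintype F] {p : ℕ} [hpp : Fact p.Prime] (hpF : (p : F) ≠ 0)
    (hW : ¬ p ∣ Nat.card M.Group) {d : ℕ} {B : Fin l → Fin l → ℤ} (hB : InvC D l d B) (hd : d ≠ 0) (hdp : d.Coprime p)
    (w : M.Group) : ∃ X : (Fin l → ZMod p) → ↥(D.group F), ModelC hp p (Fintype.card F) w X := by
  classical
  obtain ⟨r, e', hr, hrF, hrk, he', hq, hk⟩ := exists_closure (F := F) rfl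
  have hpr : p ≠ r := by
    rintro rfl
    exact hpF (CharP.cast_eq_zero F p)
  let f : F →+* AlgebraicClosure F := algebraMap F (AlgebraicClosure F)
  have hσ : IsFrob r e' (phi D (AlgebraicClosure F) r e') := isFrob_phi
  have Fr0 : Fr M.toCoxeterSystem hp.isCartan (TT D (AlgebraicClosure F)) (XX D l (AlgebraicClosure F))
      (phi D (AlgebraicClosure F) r e') (AddEquiv.refl (Fin l → ℤ)) := fr_phi hp _
  let G : Subgroup ↥(D.group (AlgebraicClosure F)) :=
    MonoidHom.eqLocus (phi D (AlgebraicClosure F) r e').toMonoidHom (MonoidHom.id _)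
  have hG : ∀ y : ↥(D.group (AlgebraicClosure F)), y ∈ G ↔ phi D (AlgebraicClosure F) r e' y = y := fun y => Iff.rfl
  have h0 := exists_modelN (p := p) (a := 1) hp hk hpr hW hB hd he' hσ Fr0 (G := G) (f := G.subtype)
    (Subgroup.subtype_injective _) (fun y hy => ⟨⟨y, hy⟩, rfl⟩) w
  rw [pow_one, ← hq] at h0
  obtain ⟨X, hX⟩ := h0
  have hinj := emb_injective hp.inList f
  have hfixP : ∀ y : G, (y : ↥(D.group (AlgebraicClosure F))) ^ d ∈ (emb hp.inList f).range := fun y =>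
    fix_pow_range hp M.toCoxeterSystem f hq hB hd ((hG _).1 y.2)
  have hzero : (0 : Fin l → ZMod p) ∈ LamU hp p (Fintype.card F) w := by
    intro x
    unfold lam
    simp
  have hX0 : X 0 = 1 := by
    have h := hX.add 0 hzero 0 hzero
    rw [add_zero] at h
    exact (mul_eq_left.1 h.symm)
  have hXn : ∀ c ∈ LamU hp p (Fintype.card F) w, ∀ n : ℕ, X ((n : ZMod p) • c) = X c ^ n := by
    intro c hc n
    induction n with
    | zero => rw [Nat.cast_zero, zero_smul, pow_zero, hX0]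
    | succ n ih => rw [Nat.cast_succ, add_smul, one_smul, hX.add _ (Lam.smul hp _ hc) _ hc, ih, pow_succ]
  have hXp : ∀ c ∈ LamU hp p (Fintype.card F) w, X c ^ p = 1 := by
    intro c hc
    rw [← hXn c hc, ZMod.natCast_self, zero_smul, hX0]
  have hX1 : ∀ c : Fin l → ZMod p, ∃ x : ↥(D.group F), c ∈ LamU hp p (Fintype.card F) w →
      emb hp.inList f x = (X c : ↥(D.group (AlgebraicClosure F))) := by
    intro c
    by_cases hc : c ∈ LamU hp p (Fintype.card F) w
    · obtain ⟨x, hx⟩ := mem_of_pow_mem hdp (congrArg Subtype.val (hXp c hc)) (hfixP (X c))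
      exact ⟨x, fun _ => hx⟩
    · exact ⟨1, fun h => absurd h hc⟩
  choose Y hY using hX1
  refine ⟨Y, ?_, ?_, ?_⟩
  · intro c hc c' hc'
    apply hinj
    rw [map_mul, hY _ (Lam.add hp hc hc'), hY _ hc, hY _ hc', hX.add c hc c' hc']
    rfl
  · intro c hc h1
    refine hX.inj c hc (Subtype.ext ?_)
    rw [← hY _ hc, h1, map_one]
    rfl
  · intro c hc c' hc' hs h hh
    have h2 : emb hp.inList f h ∈ G := by
      rw [hG]
      exact phi_emb hp f hq h
    apply hinj
    have h3 := hX.cen c hc c' hc' hs ⟨emb hp.inList f h, h2⟩ (Subtype.ext (by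
      have h4 := congrArg (emb hp.inList f) hh
      rw [map_mul, map_mul, hY _ hc'] at h4
      exact h4))
    rw [map_mul, map_mul, hY _ hc]
    exact congrArg Subtype.val h3

theorem ModelC.congr {hp : IsType D l M} {p Q : ℕ} {w : M.Group} {S : Type v} [Group S]
    {X : (Fin l → ZMod p) → S} (H : ModelC hp p Q w X) {S' : Type*} [Group S'] (e : S ≃* S') :
    ModelC hp p Q w (fun c => e (X c)) where
  add c hc c' hc' := by
    show e _ = e _ * e _
    rw [H.add c hc c' hc', map_mul]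
  inj c hc h := H.inj c hc (e.map_eq_one_iff.1 h)
  cen c hc c' hc' hs h hh := by
    apply e.symm.injective
    have h1 := H.cen c hc c' hc' hs (e.symm h) (e.injective (by
      rw [map_mul, map_mul, e.apply_symm_apply]
      exact hh))
    rw [map_mul, map_mul, e.symm_apply_apply]
    exact h1

/-- the height theorem from a model: `P ≃ (Z / p ^ v) ^ 2` -/
theorem ModelC.x0_eq_kJ {hp : IsType D l M} {p Q : ℕ} [hpp : Fact p.Prime] {w : M.Group} {S : Type u} [Group S] [Finite S]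
    {X : (Fin l → ZMod p) → S} (H : ModelC hp p Q w X) {I : Ideal AlgInt} (hM : IsPModular p I) {v : ℕ}
    (hP : ∀ P : Sylow p S, Nonempty (P ≃* (Fin 2 → Multiplicative (ZMod (p ^ v)))))
    {c₀ c₁ c₂ : Fin l → ZMod p} (h₀ : c₀ ∈ LamU hp p Q w) (h₁ : c₁ ∈ LamU hp p Q w) (h₂ : c₂ ∈ LamU hp p Q w)
    (hind : ∀ s t : ZMod p, s • c₁ + t • c₂ = 0 → s = 0 ∧ t = 0)
    (hroot : ∀ s : Fin D.nroots, lam c₀ (vec D l s) = 0 → lam c₁ (vec D l s) = 0 ∧ lam c₂ (vec D l s) = 0)
    (hne : c₀ ≠ 0) : x0 p I S = kJ p I S := by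
  classical
  have hzero : (0 : Fin l → ZMod p) ∈ LamU hp p Q w := by
    intro x
    unfold lam
    simp
  have hX0 : X 0 = 1 := by
    have h := H.add 0 hzero 0 hzero
    rw [add_zero] at h
    exact (mul_eq_left.1 h.symm)
  have hneg : ∀ c ∈ LamU hp p Q w, -c ∈ LamU hp p Q w := by
    intro c hc
    have := Lam.smul hp (-1) hc
    rwa [neg_one_smul] at this
  have hXneg : ∀ c ∈ LamU hp p Q w, X (-c) = (X c)⁻¹ := by
    intro c hc
    have h2 := H.add _ (hneg c hc) _ hc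
    rw [neg_add_cancel, hX0] at h2
    exact eq_inv_of_mul_eq_one_left h2.symm
  have hXn : ∀ c ∈ LamU hp p Q w, ∀ n : ℕ, X ((n : ZMod p) • c) = X c ^ n := by
    intro c hc n
    induction n with
    | zero => rw [Nat.cast_zero, zero_smul, pow_zero, hX0]
    | succ n ih => rw [Nat.cast_succ, add_smul, one_smul, H.add _ (Lam.smul hp _ hc) _ hc, ih, pow_succ]
  have hXp : ∀ c ∈ LamU hp p Q w, X c ^ p = 1 := by
    intro c hc
    rw [← hXn c hc, ZMod.natCast_self, zero_smul, hX0]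
  have hXinj : ∀ c ∈ LamU hp p Q w, ∀ c' ∈ LamU hp p Q w, X c = X c' → c = c' := by
    intro c hc c' hc' h
    have h2 := H.add _ hc _ (hneg c' hc')
    rw [hXneg c' hc', h, mul_inv_cancel] at h2
    have h3 := H.inj _ (Lam.add hp hc (hneg c' hc')) h2
    rw [← sub_eq_add_neg, sub_eq_zero] at h3
    exact h3
  -- the subgroup
  let A : Subgroup S :=
    { carrier := {x | ∃ c ∈ LamU hp p Q w, X c = x}
      one_mem' := ⟨0, hzero, hX0⟩
      mul_mem' := by
        rintro _ _ ⟨c, hc, rfl⟩ ⟨c', hc', rfl⟩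
        exact ⟨c + c', Lam.add hp hc hc', H.add c hc c' hc'⟩
      inv_mem' := by
        rintro _ ⟨c, hc, rfl⟩
        exact ⟨-c, hneg c hc, hXneg c hc⟩ }
  have hA : IsPGroup p A := by
    rintro ⟨x, c, hc, rfl⟩
    refine ⟨1, Subtype.ext ?_⟩
    show X c ^ p ^ 1 = 1
    rw [pow_one, hXp c hc]
  obtain ⟨P, hAP⟩ := hA.exists_le_sylow
  have hmem : ∀ c ∈ LamU hp p Q w, X c ∈ (P : Subgroup S) := fun c hc => hAP ⟨c, hc, rfl⟩
  have hcl : ∀ s t : ZMod p, s • c₁ + t • c₂ ∈ LamU hp p Q w := fun s t => Lam.add hp (Lam.smul hp s h₁) (Lam.smul hp t h₂)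
  -- the number of the elements of order `p`
  obtain ⟨e⟩ := hP P
  have hv : v ≠ 0 := by
    rintro rfl
    apply hne
    refine H.inj c₀ h₀ ?_
    have h1 : (⟨X c₀, hmem c₀ h₀⟩ : P) = 1 := e.injective (by
      funext i
      have : Subsingleton (Multiplicative (ZMod (p ^ 0))) := by
        rw [pow_zero]
        infer_instance
      exact Subsingleton.elim _ _)
    exact congrArg Subtype.val h1
  obtain ⟨n, rfl⟩ := Nat.exists_eq_succ_of_ne_zero hv
  have h2 : Nat.card {x : S // x ∈ (P : Subgroup S) ∧ x ^ p = 1} ≤ p ^ 2 := by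
    rw [← card_tors_two (p := p) (n := n)]
    have hN : NeZero (p ^ (n + 1)) := ⟨pow_ne_zero _ hpp.out.ne_zero⟩
    refine Nat.card_le_card_of_injective (fun x => (⟨e ⟨x.1, x.2.1⟩, ?_⟩ :
      {a : Fin 2 → Multiplicative (ZMod (p ^ (n + 1))) // a ^ p = 1})) ?_
    · rw [← map_pow]
      have h3 : (⟨x.1, x.2.1⟩ : P) ^ p = 1 := Subtype.ext x.2.2
      rw [h3, map_one]
    · intro a b hab'
      have h3 := e.injective (Subtype.mk.inj hab')
      exact Subtype.ext (Subtype.mk.inj h3)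
  -- the elements of order `p` of `P`
  have hf : Function.Injective fun t : ZMod p × ZMod p =>
      (⟨X (t.1 • c₁ + t.2 • c₂), hmem _ (hcl _ _), hXp _ (hcl _ _)⟩ : {x : S // x ∈ (P : Subgroup S) ∧ x ^ p = 1}) := by
    rintro ⟨s, t⟩ ⟨s', t'⟩ hst
    have h3 := hXinj _ (hcl s t) _ (hcl s' t') (Subtype.mk.inj hst)
    obtain ⟨h4, h5⟩ := hind (s - s') (t - t') (by
      rw [sub_smul, sub_smul]
      have h6 : s • c₁ - s' • c₁ + (t • c₂ - t' • c₂) = (s • c₁ + t • c₂) - (s' • c₁ + t' • c₂) := by abel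
      rw [h6, h3, sub_self])
    rw [sub_eq_zero.1 h4, sub_eq_zero.1 h5]
  have hbij : Function.Bijective fun t : ZMod p × ZMod p =>
      (⟨X (t.1 • c₁ + t.2 • c₂), hmem _ (hcl _ _), hXp _ (hcl _ _)⟩ : {x : S // x ∈ (P : Subgroup S) ∧ x ^ p = 1}) := by
    refine hf.bijective_of_nat_card_le ?_
    rw [Nat.card_prod, Nat.card_zmod]
    rwa [sq] at h2
  refine (x0_eq_kJ_of_iso hM P ⟨e⟩ (y := X c₀) (hmem c₀ h₀) (hXp c₀ h₀) (fun h => hne (H.inj c₀ h₀ h)) ?_).2
  intro g _ hg x hx hxp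
  obtain ⟨t, ht⟩ := hbij.2 ⟨x, hx, hxp⟩
  have h3 : X (t.1 • c₁ + t.2 • c₂) = x := Subtype.mk.inj ht
  rw [← h3]
  refine H.cen _ (hcl _ _) c₀ h₀ (fun s hs => ?_) g hg
  obtain ⟨h4, h5⟩ := hroot s hs
  rw [lam_add', lam_smul', lam_smul', h4, h5, mul_zero, mul_zero, add_zero]

/-- **The height theorem for the untwisted exceptional groups, rank two.** -/
theorem x0_eq_kJ_untw {F : Type} [Field F] [Fintype F] {dg : List ℕ}
    (hc : (D, dg) ∈ [(Cfsg.Lie.chevG2, [2, 6]), (Cfsg.Lie.chevB2, [2, 4]), (Cfsg.Lie.chevD4, [2, 4, 4, 6]),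
      (Cfsg.Lie.chevF4, [2, 6, 8, 12]), (Cfsg.Lie.chevE6, [2, 5, 6, 8, 9, 12]), (Cfsg.Lie.chevE7, [2, 6, 8, 10, 12, 14, 18]),
      (Cfsg.Lie.chevE8, [2, 8, 12, 14, 18, 20, 24, 30])])
    (hp : IsType D l M) {p : ℕ} [hpp : Fact p.Prime] {I : Ideal AlgInt} (hM : IsPModular p I) (hpF : (p : F) ≠ 0)
    (hpW : ¬ p ∣ dg.prod) (hW : ¬ p ∣ Nat.card M.Group) {d : ℕ} {B : Fin l → Fin l → ℤ} (hB : InvC D l d B) (hd : d ≠ 0)
    (hdp : d.Coprime p) {S : Type u} [Group S] [Finite S] (e : S ≃* ↥(D.group F))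
    (hlen : (dg.filter (fun n => orderOf (Fintype.card F : ZMod p) ∣ n)).length = 2) (w : M.Group)
    {c₀ c₁ c₂ : Fin l → ZMod p} (h₀ : c₀ ∈ LamU hp p (Fintype.card F) w) (h₁ : c₁ ∈ LamU hp p (Fintype.card F) w)
    (h₂ : c₂ ∈ LamU hp p (Fintype.card F) w) (hind : ∀ s t : ZMod p, s • c₁ + t • c₂ = 0 → s = 0 ∧ t = 0)
    (hroot : ∀ s : Fin D.nroots, lam c₀ (vec D l s) = 0 → lam c₁ (vec D l s) = 0 ∧ lam c₂ (vec D l s) = 0)
    (hne : c₀ ≠ 0) : x0 p I S = kJ p I S := by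
  classical
  obtain ⟨X, hX⟩ := exists_modelC hp hpF hW hB hd hdp w
  have H := hX.congr e.symm
  have hfin : Finite ↥(D.group F) := Finite.of_equiv S e.toEquiv
  have hpq : ¬ p ∣ Fintype.card F := by
    obtain ⟨r, hr⟩ := CharP.exists F
    obtain ⟨n, hr', hn⟩ := FiniteField.card F r
    intro h
    rw [hn] at h
    have h1 := (Nat.prime_dvd_prime_iff_eq hpp.out hr').1 (hpp.out.dvd_of_dvd_pow h)
    exact hpF (h1 ▸ CharP.cast_eq_zero F r)
  have hpG : p ∣ Nat.card ↥(D.group F) := by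
    have h1 : orderOf (X c₀) ∣ Nat.card ↥(D.group F) := orderOf_dvd_natCard _
    have h2 : orderOf (X c₀) = p := by
      have hzero : (0 : Fin l → ZMod p) ∈ LamU hp p (Fintype.card F) w := by
        intro x
        unfold lam
        simp
      have hX0 : X 0 = 1 := by
        have h := hX.add 0 hzero 0 hzero
        rw [add_zero] at h
        exact (mul_eq_left.1 h.symm)
      have hXn : ∀ n : ℕ, X ((n : ZMod p) • c₀) = X c₀ ^ n := by
        intro n
        induction n with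
        | zero => rw [Nat.cast_zero, zero_smul, pow_zero, hX0]
        | succ n ih => rw [Nat.cast_succ, add_smul, one_smul, hX.add _ (Lam.smul hp _ h₀) _ h₀, ih, pow_succ]
      refine orderOf_eq_prime ?_ (fun h => hne (hX.inj c₀ h₀ h))
      rw [← hXn, ZMod.natCast_self, zero_smul, hX0]
    rwa [h2] at h1
  refine H.x0_eq_kJ hM (v := padicValNat p ((Polynomial.cyclotomic (orderOf (Fintype.card F : ZMod p)) ℤ).eval
    (Fintype.card F : ℤ)).natAbs) (fun P => ?_) h₀ h₁ h₂ hind hroot hne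
  -- the Sylow subgroups
  let R : Sylow p ↥(D.group F) := P.mapSurjective (f := e.toMonoidHom) e.surjective
  obtain ⟨e1⟩ := S2378.result rfl (D, dg) hc p hpq hpW hpG R
  have e2 : (P : Subgroup S) ≃* (R : Subgroup ↥(D.group F)) := e.subgroupMap (P : Subgroup S)
  have e3 := e2.trans e1
  have hlen' : (List.filter (fun n => decide (orderOf (Fintype.card F : ZMod p) ∣ n)) (D, dg).2).length = 2 := hlen
  rw [hlen'] at e3
  exact ⟨e3⟩

end model

end Cfsg.Agent.H214.XR
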